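import Mathlib
import Cfsg.Prelude.Def_Characters
import Cfsg.Prelude.Def_Blocks

/-!
# S4463 farm (helper15): Isaacs–Passman, shared definitions

`b(X)` is never named: `DegLE X n` says that every irreducible character of `X` has degree at most `n`;
`HasAb X n` is the conclusion (an abelian subgroup of index at most `(n!)^2`); `Red X b` is the reduction
step (a proper subgroup `J` with all degrees at most `c` and `|X : J| (c!)^2 ≤ (b!)^2`).
-/

set_option autoImplicit false

namespace Cfsg.Agent.Lib.Helper15.IP

open Cfsg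

/-- every irreducible character of `X` has degree at most `n` -/
def DegLE (X : Type*) [Group X] (n : ℕ) : Prop :=
  ∀ χ : IrrCharacter X, charDegree (χ : X → ℂ) ≤ n

/-- `X` has an abelian subgroup of index at most `(n!)^2` -/
def HasAb (X : Type*) [Group X] (n : ℕ) : Prop :=
  ∃ A : Subgroup X, (∀ x ∈ A, ∀ y ∈ A, x * y = y * x) ∧ A.index ≤ (Nat.factorial n) ^ 2

/-- the reduction step: a proper subgroup `J`, all of whose irreducible characters have degree at most `c`,
with `|X : J| (c!)^2 ≤ (b!)^2` -/
def Red (X : Type*) [Group X] (b : ℕ) : Prop :=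
  ∃ (J : Subgroup X) (c : ℕ), J ≠ ⊤ ∧ DegLE ↥J c ∧
    J.index * (Nat.factorial c) ^ 2 ≤ (Nat.factorial b) ^ 2

end Cfsg.Agent.Lib.Helper15.IP
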