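import Mathlib
import Cfsg.Agent.Lib.Helper15.IP.Defs
import Cfsg.Agent.Lib.Helper7.Covering
import Cfsg.Agent.Lib.Helper25.Constituent
import Cfsg.Agent.Lib.Helper2.TwoDegrees

/-!
# S4463 farm (helper15), leaf L01

[L01] degrees of a subgroup are bounded by those of the group: for `χ ∈ Irr(J)` take an irreducible
constituent `ξ` of the induced character `indFun J χ` (a non-zero character of `G`); by Frobenius reciprocity
`χ` is a constituent of the restriction of `ξ` to `J`, so `χ(1) ≤ ξ(1) ≤ b`. (Library: Helper24/FRInduced,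
Helper7.exists_constituent_restrict, Helper2.DirectProduct ...; very likely already present in some form.)

Filled by helper13 via `Helper7.exists_irr_over` + `Helper25.mult_mul_degree_le`.
-/

set_option autoImplicit false

namespace Cfsg.Agent.Lib.Helper15.IP

open Cfsg
open scoped commutatorElement

universe u

variable {G : Type u} [Group G]

theorem degLE_subgroup [Finite G] {b : ℕ} (hG : DegLE G b) (J : Subgroup G) : DegLE ↥J b := by
  classical
  haveI : Fintype G := Fintype.ofFinite G
  haveI : Fintype J := Fintype.ofFinite J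
  intro ξ
  obtain ⟨χ, hχ⟩ := Cfsg.Agent.Lib.Helper7.exists_irr_over J ξ
  have hres : Cfsg.IsCharacter J (fun h : J => (χ : G → ℂ) h) :=
    Cfsg.Agent.Lib.Helper2.IsCharacter.restrict
      (Cfsg.Agent.Lib.Helper2.IsIrrCharacter.isCharacter χ.2) J
  obtain ⟨m, hm⟩ := Cfsg.Agent.Lib.Helper2.classInner_isCharacter_nat hres
    (Cfsg.Agent.Lib.Helper2.IsIrrCharacter.isCharacter ξ.2)
  have hm0 : m ≠ 0 := by
    rintro rfl
    exact hχ (by simpa using hm)
  have hd := Cfsg.Agent.Lib.Helper2.TwoDeg.apply_one_eq_charDegree ξ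
  have hD : (fun h : J => (χ : G → ℂ) h) 1 = (Cfsg.charDegree (χ : G → ℂ) : ℂ) := by
    have := Cfsg.Agent.Lib.Helper2.TwoDeg.apply_one_eq_charDegree χ
    simpa using this
  have hle := Cfsg.Agent.Lib.Helper25.mult_mul_degree_le ξ hres hm hd hD
  have h1 : Cfsg.charDegree (ξ : J → ℂ) ≤ m * Cfsg.charDegree (ξ : J → ℂ) :=
    Nat.le_mul_of_pos_left _ (Nat.pos_of_ne_zero hm0)
  exact le_trans (le_trans h1 hle) (hG χ)

end Cfsg.Agent.Lib.Helper15.IP
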