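import Mathlib
import Cfsg.Agent.Lib.Helper20.CD3Tools
import Cfsg.Agent.Lib.Helper15.IP.Defs

/-!
# S4463 farm (helper15), leaf L02

[L02] inflation of an irreducible character of `G ⧸ K` to `G` (as an `IrrCharacter G` with the same values).
See `Cfsg.Agent.Lib.Helper20.CD3.exists_inflation` in Lib/Helper20/CD3Tools.lean, which is essentially this.
-/

set_option autoImplicit false

namespace Cfsg.Agent.Lib.Helper15.IP

open Cfsg
open scoped commutatorElement

universe u

variable {G : Type u} [Group G]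

theorem exists_inflation' [Finite G] (K : Subgroup G) [K.Normal] (θ : IrrCharacter (G ⧸ K)) :
    ∃ η : IrrCharacter G, ∀ g : G, (η : G → ℂ) g = (θ : G ⧸ K → ℂ) (g : G ⧸ K) := by
  obtain ⟨χ, -, hχ⟩ := Cfsg.Agent.Lib.Helper20.CD3.exists_inflation K θ
  exact ⟨χ, hχ⟩

end Cfsg.Agent.Lib.Helper15.IP
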