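import Mathlib
import Cfsg.Agent.Lib.Helper20.CD3Tools
import Cfsg.Agent.Lib.Helper15.IP.Defs
import Cfsg.Agent.Lib.Helper15.IP.L02

/-!
# S4463 farm (helper15), leaf L03

[L03] degrees of a quotient are degrees of the group (inflate with L02, evaluate at 1; `charDegree` of the
inflation equals that of `θ`; cf. `TwoDeg.apply_one_eq_charDegree`, `ThompsonDeg.charDegree_eq`).
-/

set_option autoImplicit false

namespace Cfsg.Agent.Lib.Helper15.IP

open Cfsg
open scoped commutatorElement

universe u

variable {G : Type u} [Group G]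

theorem degLE_quotient [Finite G] {b : ℕ} (hG : DegLE G b) (K : Subgroup G) [K.Normal] :
    DegLE (G ⧸ K) b := by
  intro θ
  obtain ⟨χ, hdeg, -⟩ := Cfsg.Agent.Lib.Helper20.CD3.exists_inflation K θ
  rw [← hdeg]
  exact hG χ

end Cfsg.Agent.Lib.Helper15.IP
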