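import Mathlib
import Cfsg.Agent.Lib.Helper15.IP.Defs
import Cfsg.Agent.Lib.Helper20.CD3Tools

/-!
# S4463 farm (helper15), leaf L04

[L04] a character `σ` of `J` of the maximal possible degree `b` extends to `G`: take an irreducible
constituent `ξ` of the induced character; by Frobenius reciprocity `σ` is a constituent of `ξ|_J`, so
`b = σ(1) ≤ ξ(1) ≤ b`, hence `ξ|_J - σ` is a character of degree 0 (or: `ξ|_J = σ + (sum of others)` with
nonneg multiplicities and total degree 0), i.e. `ξ|_J = σ`. (Library: Helper20/CD3Tools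
`restrict_eq_of_degree_eq`, Helper24/FRInduced, Helper7.)
-/

set_option autoImplicit false

namespace Cfsg.Agent.Lib.Helper15.IP

open Cfsg
open scoped commutatorElement

universe u

variable {G : Type u} [Group G]

theorem exists_extension [Finite G] {b : ℕ} (hG : DegLE G b) (J : Subgroup G)
    (σ : IrrCharacter ↥J) (hσ : charDegree (σ : ↥J → ℂ) = b) :
    ∃ ξ : IrrCharacter G, ∀ x : ↥J, (ξ : G → ℂ) (x : G) = (σ : ↥J → ℂ) x := by
  classical
  have : Fintype G := Fintype.ofFinite G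
  have : Fintype ↥J := Fintype.ofFinite ↥J
  have hσc : IsCharacter ↥J (σ : ↥J → ℂ) :=
    Cfsg.Agent.Lib.Helper2.IsIrrCharacter.isCharacter σ.2
  have hind : IsCharacter G (indFun J (σ : ↥J → ℂ)) :=
    Cfsg.Agent.Lib.Helper2.indFun_isCharacter J _ hσc
  have hne : indFun J (σ : ↥J → ℂ) ≠ 0 := by
    intro h0
    have h1 := congrFun h0 1
    rw [Cfsg.Agent.Lib.Helper2.indFun_apply_one, Pi.zero_apply] at h1
    rcases mul_eq_zero.1 h1 with h2 | h2
    · have : J.index ≠ 0 := Subgroup.index_ne_zero_of_finite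
      exact this (by exact_mod_cast h2)
    · exact Cfsg.Agent.Lib.Helper2.IsIrrCharacter.apply_one_ne_zero σ.2 h2
  obtain ⟨ξ, Ψ, hΨ, hsum⟩ := Cfsg.Agent.Lib.Helper2.exists_irr_add_of_ne_zero hind hne
  refine ⟨ξ, ?_⟩
  have hξc : IsCharacter G (ξ : G → ℂ) := Cfsg.Agent.Lib.Helper2.IsIrrCharacter.isCharacter ξ.2
  have hξcf : IsClassFunction G (ξ : G → ℂ) :=
    Cfsg.Agent.Lib.Helper2.IsCharacter.isClassFunction hξc
  -- `ξ` is a constituent of the induced character
  have hcon : classInner (indFun J (σ : ↥J → ℂ)) (ξ : G → ℂ) ≠ 0 := by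
    obtain ⟨a, ha⟩ := Cfsg.Agent.Lib.Helper2.classInner_isCharacter_nat hΨ hξc
    rw [hsum, Cfsg.Agent.Lib.Helper2.classInner_add_left,
      Cfsg.Agent.Lib.Helper2.classInner_irrCharacter_self, ha]
    have : (1 + a : ℕ) ≠ 0 := by omega
    exact_mod_cast this
  rw [Cfsg.Agent.Lib.Helper2.frobenius_reciprocity J _ _ hξcf] at hcon
  have hcon' : classInner (fun h : ↥J => (ξ : G → ℂ) h) (σ : ↥J → ℂ) ≠ 0 := by
    rw [← Cfsg.Agent.Lib.Helper2.classInner_conj_symm]
    exact fun h => hcon ((map_eq_zero _).1 h)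
  have hres : IsCharacter ↥J (fun h : ↥J => (ξ : G → ℂ) h) :=
    Cfsg.Agent.Lib.Helper2.IsCharacter.restrict hξc J
  have ha : (fun h : ↥J => (ξ : G → ℂ) h) 1 = (charDegree (ξ : G → ℂ) : ℂ) := by
    show (ξ : G → ℂ) ((1 : ↥J) : G) = _
    rw [Subgroup.coe_one, Cfsg.Agent.Lib.Helper2.TwoDeg.apply_one_eq_charDegree ξ]
  have hb : (σ : ↥J → ℂ) 1 = (charDegree (σ : ↥J → ℂ) : ℂ) :=
    Cfsg.Agent.Lib.Helper2.TwoDeg.apply_one_eq_charDegree σ
  have hle : charDegree (ξ : G → ℂ) ≤ charDegree (σ : ↥J → ℂ) := by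
    rw [hσ]; exact hG ξ
  have heq := Cfsg.Agent.Lib.Helper2.BG.eq_of_classInner_ne_zero_of_degree_le hres σ hcon' ha hb hle
  intro x
  exact congrFun heq x

end Cfsg.Agent.Lib.Helper15.IP
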