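import Mathlib
import Cfsg.Agent.Lib.Helper15.IP.Defs
import Cfsg.Agent.Lib.Helper15.IP.L04
import Cfsg.Agent.Lib.Helper2.BrolineGarrison
import Cfsg.Agent.Lib.Helper2.Expansion
import Cfsg.Agent.Lib.Helper2.Induction

/-!
# S4463 farm (helper15), leaf L05

[L05] `σ ∈ Irr(J)` of degree `b`, `ξ` an extension (L04). Every irreducible constituent `ξ'` of `Ind σ` has
`σ ⊆ ξ'|_J` and degree `≤ b`, hence restricts to `σ`; so `(Ind σ)|_J = m σ` with `m = Σ mult`, and degrees give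
`m = |G:J|`. Equivalently: write `Ind σ = Σ_ξ' ⟨Ind σ, ξ'⟩ ξ'` (class function expansion over `Irr G`) and use
`⟨Ind σ, ξ'⟩ = ⟨σ, ξ'|_J⟩ ≠ 0 ⇒ ξ'|_J = σ`. NOTE `indFun` is the Prelude induced class function
(`Cfsg.indFun`, see Helper2/DirectProduct `indFun_apply`).

Filled by helper3 (aux lemmas in the sub-namespace `L05`).
-/

set_option autoImplicit false

namespace Cfsg.Agent.Lib.Helper15.IP

open Cfsg
open scoped commutatorElement

universe u

variable {G : Type u} [Group G]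

namespace L05

open Cfsg.Agent.Lib.Helper2
open scoped ComplexConjugate

/-- a constituent of `Ind σ` (σ of the largest degree) restricts to `σ` -/
theorem restrict_eq_of_inner_ne_zero [Fintype G] {b : ℕ} (hG : DegLE G b) (J : Subgroup G)
    [Fintype ↥J]
    (σ : IrrCharacter ↥J) (hσ : charDegree (σ : ↥J → ℂ) = b) (ξ : IrrCharacter G)
    (h : classInner (σ : ↥J → ℂ) (fun k : ↥J => (ξ : G → ℂ) k) ≠ 0) :
    (fun k : ↥J => (ξ : G → ℂ) k) = (σ : ↥J → ℂ) := by
  have hΨ : IsCharacter ↥J (fun k : ↥J => (ξ : G → ℂ) k) :=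
    IsCharacter.restrict (IsIrrCharacter.isCharacter ξ.2) J
  have hcon : classInner (fun k : ↥J => (ξ : G → ℂ) k) (σ : ↥J → ℂ) ≠ 0 := by
    rw [← classInner_conj_symm]
    intro h0
    apply h
    have := congrArg conj h0
    simpa using this
  have ha : (fun k : ↥J => (ξ : G → ℂ) k) 1 = (charDegree (ξ : G → ℂ) : ℂ) := by
    show (ξ : G → ℂ) ((1 : ↥J) : G) = _
    rw [Subgroup.coe_one, BG.apply_one_eq ξ]
  have hb : (σ : ↥J → ℂ) 1 = (charDegree (σ : ↥J → ℂ) : ℂ) := BG.apply_one_eq σ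
  exact BG.eq_of_classInner_ne_zero_of_degree_le hΨ σ hcon ha hb (by rw [hσ]; exact hG ξ)

/-- the value of an induced function at `1` -/
theorem indFun_one [Fintype G] (J : Subgroup G) (θ : ↥J → ℂ) :
    Cfsg.indFun J θ (1 : G) = (J.index : ℂ) * θ 1 := by
  classical
  rw [indFun_apply]
  have h1 : ∀ x : G, Cfsg.extendByZero J θ (x⁻¹ * 1 * x) = θ 1 := by
    intro x
    have : x⁻¹ * 1 * x = ((1 : ↥J) : G) := by simp
    rw [this, extendByZero_coe]
  simp only [h1, Finset.sum_const, Finset.card_univ, nsmul_eq_mul]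
  have hcard : (Fintype.card G : ℂ) = (Nat.card ↥J : ℂ) * (J.index : ℂ) := by
    rw [← Nat.cast_mul, Subgroup.card_mul_index, Nat.card_eq_fintype_card]
  rw [hcard]
  have hne : (Nat.card ↥J : ℂ) ≠ 0 := card_subgroup_ne_zero J
  field_simp

end L05

theorem indFun_eq_index_mul [Fintype G] {b : ℕ} (hG : DegLE G b) (J : Subgroup G)
    (σ : IrrCharacter ↥J) (hσ : charDegree (σ : ↥J → ℂ) = b) (x : ↥J) :
    Cfsg.indFun J (σ : ↥J → ℂ) (x : G) = (J.index : ℂ) * (σ : ↥J → ℂ) x := by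
  classical
  haveI : Fintype ↥J := Fintype.ofFinite _
  haveI : Fintype (IrrCharacter G) := Fintype.ofFinite _
  open Cfsg.Agent.Lib.Helper2 in
  have hexp := classFunction_expansion (Cfsg.indFun J (σ : ↥J → ℂ))
    (indFun_isClassFunction J (σ : ↥J → ℂ))
  -- the coefficients
  set c : IrrCharacter G → ℂ := fun ξ =>
    classInner (σ : ↥J → ℂ) (fun k : ↥J => (ξ : G → ℂ) k) with hc
  have hcoef : ∀ ξ : IrrCharacter G,
      classInner (Cfsg.indFun J (σ : ↥J → ℂ)) (ξ : G → ℂ) = c ξ := by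
    intro ξ
    exact Cfsg.Agent.Lib.Helper2.frobenius_reciprocity J (σ : ↥J → ℂ) (ξ : G → ℂ)
      (Cfsg.Agent.Lib.Helper2.IrrCharacter.isClassFunction ξ)
  -- value at any `y ∈ J`
  have hval : ∀ y : ↥J, Cfsg.indFun J (σ : ↥J → ℂ) (y : G)
      = (∑ ξ : IrrCharacter G, c ξ) * (σ : ↥J → ℂ) y := by
    intro y
    have h1 := congrFun hexp (y : G)
    rw [h1, Finset.sum_apply, Finset.sum_mul]
    apply Finset.sum_congr rfl
    intro ξ _
    rw [Pi.smul_apply, smul_eq_mul, hcoef ξ]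
    by_cases h0 : c ξ = 0
    · rw [h0, zero_mul, zero_mul]
    · have hres := L05.restrict_eq_of_inner_ne_zero hG J σ hσ ξ h0
      have h2 : (ξ : G → ℂ) (y : G) = (σ : ↥J → ℂ) y := congrFun hres y
      rw [h2]
  -- evaluate at 1 to get the sum of coefficients
  have hone := hval 1
  rw [Subgroup.coe_one, L05.indFun_one] at hone
  have hσ1 : (σ : ↥J → ℂ) 1 ≠ 0 :=
    Cfsg.Agent.Lib.Helper2.IsIrrCharacter.apply_one_ne_zero σ.2
  have hsum : (∑ ξ : IrrCharacter G, c ξ) = (J.index : ℂ) :=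
    (mul_right_cancel₀ hσ1 hone).symm
  rw [hval x, hsum]

end Cfsg.Agent.Lib.Helper15.IP
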