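import Mathlib
import Cfsg.Agent.Lib.Helper15.IP.Defs
import Cfsg.Agent.Lib.Helper15.IP.L04
import Cfsg.Agent.Lib.Helper15.IP.L05
import Cfsg.Agent.Lib.Helper2.Expansion
import Cfsg.Agent.Lib.Helper2.Induction

/-!
# S4463 farm (helper15), leaf L06

[L06] KEY LEMMA. By L05, `Ind σ (x) = |G:J| σ(x)` for `x ∈ J`; by the formula
`Ind σ (x) = (1/|J|) Σ_{g, g⁻¹xg ∈ J} σ(g⁻¹xg)`, and `|σ(y)| ≤ b = σ(1)`... Cleaner: let `ξ` extend `σ` (L04);
then `Ind σ = Ind(ξ|_J) = ξ · Ind(1_J)` and `Ind σ (x) = |G:J| ξ(x)` forces, for `ξ(x) ≠ 0`,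
`Ind(1_J)(x) = |G:J|`, i.e. `g⁻¹xg ∈ J` for every `g`, i.e. `x ∈ core_G(J)`. If you prefer, prove directly:
`|G:J| σ(x) = (1/|J|) Σ_{g : g⁻¹xg∈J} ξ(g⁻¹xg) = (1/|J|) #{g : g⁻¹xg ∈ J} ξ(x)` since `ξ` is a class
function of `G`; so `σ(x) ≠ 0 ⇒ #{g : g⁻¹xg ∈ J} = |G|`, i.e. `x ∈ normalCore J`.

Filled by helper3.
-/

set_option autoImplicit false

namespace Cfsg.Agent.Lib.Helper15.IP

open Cfsg
open scoped commutatorElement

universe u

variable {G : Type u} [Group G]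

theorem vanish_off_core [Finite G] {b : ℕ} (hG : DegLE G b) (J : Subgroup G)
    (σ : IrrCharacter ↥J) (hσ : charDegree (σ : ↥J → ℂ) = b) (x : ↥J)
    (hx : (x : G) ∉ J.normalCore) : (σ : ↥J → ℂ) x = 0 := by
  classical
  by_contra hne
  haveI : Fintype G := Fintype.ofFinite G
  obtain ⟨ξ, hξ⟩ := exists_extension hG J σ hσ
  have h5 := indFun_eq_index_mul hG J σ hσ x
  rw [Cfsg.Agent.Lib.Helper2.indFun_apply] at h5
  have hcf := Cfsg.Agent.Lib.Helper2.IrrCharacter.isClassFunction ξ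
  -- each term of the sum
  have hterm : ∀ g : G, Cfsg.extendByZero J (σ : ↥J → ℂ) (g⁻¹ * (x : G) * g)
      = if g⁻¹ * (x : G) * g ∈ J then (σ : ↥J → ℂ) x else 0 := by
    intro g
    by_cases hg : g⁻¹ * (x : G) * g ∈ J
    · rw [if_pos hg, Cfsg.Agent.Lib.Helper2.extendByZero_of_mem J _ hg, ← hξ ⟨_, hg⟩, ← hξ x]
      have := hcf (x : G) g⁻¹
      rwa [inv_inv] at this
    · rw [if_neg hg, Cfsg.Agent.Lib.Helper2.extendByZero_of_not_mem J _ hg]
  simp only [hterm] at h5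
  rw [Finset.sum_ite, Finset.sum_const_zero, add_zero, Finset.sum_const, nsmul_eq_mul] at h5
  set S : Finset G := Finset.univ.filter (fun g : G => g⁻¹ * (x : G) * g ∈ J) with hS
  -- cancel σ x
  have hJne : (Nat.card ↥J : ℂ) ≠ 0 := Cfsg.Agent.Lib.Helper2.card_subgroup_ne_zero J
  have h6 : ((S.card : ℂ)) = (Nat.card ↥J : ℂ) * (J.index : ℂ) := by
    have h7 : (Nat.card ↥J : ℂ)⁻¹ * (S.card : ℂ) = (J.index : ℂ) := by
      apply mul_right_cancel₀ hne
      rw [mul_assoc]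
      exact h5
    rw [← h7]
    field_simp
  have h8 : S.card = Fintype.card G := by
    have : (S.card : ℂ) = ((Nat.card ↥J * J.index : ℕ) : ℂ) := by
      rw [h6, Nat.cast_mul]
    have h9 : S.card = Nat.card ↥J * J.index := by exact_mod_cast this
    rw [h9, Subgroup.card_mul_index, Nat.card_eq_fintype_card]
  have hSuniv : S = Finset.univ := (Finset.card_eq_iff_eq_univ S).mp h8
  apply hx
  show ∀ b : G, b * (x : G) * b⁻¹ ∈ J
  intro g
  have hmem : g⁻¹ ∈ S := by rw [hSuniv]; exact Finset.mem_univ _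
  rw [hS, Finset.mem_filter] at hmem
  have := hmem.2
  rwa [inv_inv] at this

end Cfsg.Agent.Lib.Helper15.IP
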