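import Mathlib
import Cfsg.Agent.Lib.Helper15.IP.Defs
import Cfsg.Agent.Lib.Helper2.AlperinFeitThompson

/-!
# S4463 farm (helper15), leaf L07

[L07] `|χ(x)| ≤ χ(1)` (sum of `χ(1)` roots of unity). Very likely in the library already (grep
`norm_le`, `abs_le_degree`, Helper25 / Helper20 / S-files on character bounds).

Filled by helper13: this is `Cfsg.Agent.Lib.Helper2.AFT.norm_le_charDegree`.
-/

set_option autoImplicit false

namespace Cfsg.Agent.Lib.Helper15.IP

open Cfsg
open scoped commutatorElement

universe u

variable {G : Type u} [Group G]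

theorem norm_le_charDegree {X : Type u} [Group X] [Finite X] (χ : IrrCharacter X) (x : X) :
    ‖(χ : X → ℂ) x‖ ≤ (charDegree (χ : X → ℂ) : ℝ) := by
  classical
  haveI : Fintype X := Fintype.ofFinite X
  exact Cfsg.Agent.Lib.Helper2.AFT.norm_le_charDegree χ x

end Cfsg.Agent.Lib.Helper15.IP
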