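import Mathlib
import Cfsg.Agent.Lib.Helper15.IP.Defs
import Cfsg.Agent.Lib.Helper2.Orthogonality

/-!
# S4463 farm (helper15), leaf L08

[L08] first orthogonality `Σ_x |χ(x)|² = |X|` for irreducible `χ` (i.e. `⟨χ,χ⟩ = 1`); the library has
`classInner`/orthogonality for `IrrCharacter` (Helper25 `irrOne`, Helper7, Prelude `Def_Characters`).
-/

set_option autoImplicit false

namespace Cfsg.Agent.Lib.Helper15.IP

open Cfsg
open scoped commutatorElement

universe u

variable {G : Type u} [Group G]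

theorem sum_norm_sq_eq_card {X : Type u} [Group X] [Fintype X] (χ : IrrCharacter X) :
    ∑ x : X, ‖(χ : X → ℂ) x‖ ^ 2 = (Nat.card X : ℝ) := by
  have h1 := Cfsg.Agent.Lib.Helper2.classInner_irrCharacter_self χ
  rw [Cfsg.Agent.Lib.Helper2.classInner_def] at h1
  have hne : (Nat.card X : ℂ) ≠ 0 := by
    have : Nat.card X ≠ 0 := Nat.card_pos.ne'
    exact_mod_cast this
  have h2 : ∑ g : X, (χ : X → ℂ) g * (starRingEnd ℂ) ((χ : X → ℂ) g) = (Nat.card X : ℂ) := by
    have := congrArg (fun z => (Nat.card X : ℂ) * z) h1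
    simpa [← mul_assoc, mul_inv_cancel₀ hne] using this
  have h3 : ∀ g : X, (χ : X → ℂ) g * (starRingEnd ℂ) ((χ : X → ℂ) g)
      = ((‖(χ : X → ℂ) g‖ ^ 2 : ℝ) : ℂ) := by
    intro g
    rw [Complex.mul_conj, Complex.normSq_eq_norm_sq]
  simp only [h3] at h2
  have h4 : ((∑ g : X, ‖(χ : X → ℂ) g‖ ^ 2 : ℝ) : ℂ) = ((Nat.card X : ℝ) : ℂ) := by
    rw [Complex.ofReal_sum]
    exact_mod_cast h2
  exact Complex.ofReal_injective h4

end Cfsg.Agent.Lib.Helper15.IP
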