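import Mathlib
import Cfsg.Agent.Lib.Helper15.IP.Defs
import Cfsg.Agent.Lib.Helper15.IP.L01
import Cfsg.Agent.Lib.Helper15.IP.L06
import Cfsg.Agent.Lib.Helper15.IP.L07
import Cfsg.Agent.Lib.Helper15.IP.L08

/-!
# S4463 farm (helper15), leaf L09

[L09] if `core_G(J) ≤ K ≤ J` and `|J| > b²|K|` then `J` has no irreducible character of degree `b`
(so all degrees `≤ b-1`, using L01 for `≤ b`): such a `σ` vanishes off `core ≤ K` (L06), so
`|J| = Σ_{x∈J}|σ(x)|² = Σ_{x ∈ K}|σ(x)|² ≤ |K| b²` (L07, L08), contradiction.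
-/

set_option autoImplicit false

namespace Cfsg.Agent.Lib.Helper15.IP

open Cfsg
open scoped commutatorElement

universe u

variable {G : Type u} [Group G]

theorem degLE_pred_of_core [Finite G] {b : ℕ} (hG : DegLE G b) (J K : Subgroup G) (hKJ : K ≤ J)
    (hcore : J.normalCore ≤ K) (hbig : b ^ 2 * Nat.card ↥K < Nat.card ↥J) : DegLE ↥J (b - 1) := by
  classical
  intro σ
  have hle : charDegree (σ : ↥J → ℂ) ≤ b := degLE_subgroup hG J σ
  by_contra hlt
  have hσ : charDegree (σ : ↥J → ℂ) = b := by omega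
  have : Fintype ↥J := Fintype.ofFinite ↥J
  have : Fintype ↥K := Fintype.ofFinite ↥K
  -- the sum of `‖σ x‖²` over `J` is `|J|`
  have hsum : ∑ x : ↥J, ‖(σ : ↥J → ℂ) x‖ ^ 2 = (Nat.card ↥J : ℝ) := sum_norm_sq_eq_card σ
  -- every term is bounded by `b²` times the indicator of `K`
  have hterm : ∀ x : ↥J, ‖(σ : ↥J → ℂ) x‖ ^ 2 ≤ if (x : G) ∈ K then (b : ℝ) ^ 2 else 0 := by
    intro x
    by_cases hx : (x : G) ∈ K
    · rw [if_pos hx]
      have h1 : ‖(σ : ↥J → ℂ) x‖ ≤ (b : ℝ) := by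
        have := norm_le_charDegree σ x
        rw [hσ] at this
        exact this
      exact pow_le_pow_left₀ (norm_nonneg _) h1 2
    · rw [if_neg hx]
      have hx' : (x : G) ∉ J.normalCore := fun h => hx (hcore h)
      have h0 : (σ : ↥J → ℂ) x = 0 := vanish_off_core hG J σ hσ x hx'
      rw [h0]
      simp
  have hbound : ∑ x : ↥J, ‖(σ : ↥J → ℂ) x‖ ^ 2 ≤
      ∑ x : ↥J, (if (x : G) ∈ K then (b : ℝ) ^ 2 else 0) :=
    Finset.sum_le_sum (fun x _ => hterm x)
  -- count the elements of `J` lying in `K`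
  have hcount : ∑ x : ↥J, (if (x : G) ∈ K then (b : ℝ) ^ 2 else 0) =
      (Nat.card ↥K : ℝ) * (b : ℝ) ^ 2 := by
    rw [← Finset.sum_filter, Finset.sum_const, nsmul_eq_mul]
    congr 1
    have hcard : (Finset.univ.filter (fun x : ↥J => (x : G) ∈ K)).card = Nat.card ↥K := by
      rw [Nat.card_eq_fintype_card (α := ↥K)]
      rw [← Fintype.card_subtype]
      refine Fintype.card_congr ?_
      exact
        { toFun := fun x => ⟨(x.1 : G), x.2⟩
          invFun := fun y => ⟨⟨(y : G), hKJ y.2⟩, y.2⟩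
          left_inv := fun x => by cases x; rfl
          right_inv := fun y => by cases y; rfl }
    rw [hcard]
  have hfin : (Nat.card ↥J : ℝ) ≤ (Nat.card ↥K : ℝ) * (b : ℝ) ^ 2 := by
    rw [← hsum, ← hcount]
    exact hbound
  have hfin' : Nat.card ↥J ≤ Nat.card ↥K * b ^ 2 := by
    have : ((Nat.card ↥J : ℕ) : ℝ) ≤ ((Nat.card ↥K * b ^ 2 : ℕ) : ℝ) := by
      push_cast
      exact hfin
    exact_mod_cast this
  have : b ^ 2 * Nat.card ↥K = Nat.card ↥K * b ^ 2 := Nat.mul_comm _ _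
  omega

end Cfsg.Agent.Lib.Helper15.IP
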