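import Mathlib
import Cfsg.Agent.Lib.Helper15.IP.Defs

/-!
# S4463 farm (helper15), leaf L10

[L10] pure group theory. `L' = commutator L` is the unique minimal normal subgroup (`hmin`) and is
nonabelian. If `C = core(C_L(x)) ≠ ⊥` then `L' ≤ C ≤ C_L(x)`, so `x ∈ C_L(L')`, a normal subgroup; it is
nontrivial (contains `x ≠ 1`), so `L' ≤ C_L(L')`, i.e. `L'` abelian: contradiction.
-/

set_option autoImplicit false

namespace Cfsg.Agent.Lib.Helper15.IP

open Cfsg
open scoped commutatorElement

universe u

variable {G : Type u} [Group G]

theorem centralizer_normalCore_eq_bot {L : Type u} [Group L] [Finite L]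
    (hmin : ∀ N : Subgroup L, N.Normal → N ≠ ⊥ → commutator L ≤ N)
    (hnab : ¬ ∀ a ∈ commutator L, ∀ b ∈ commutator L, a * b = b * a)
    (x : L) (hx : x ≠ 1) : (Subgroup.centralizer ({x} : Set L)).normalCore = ⊥ := by
  by_contra hne
  apply hnab
  have h1 : commutator L ≤ (Subgroup.centralizer ({x} : Set L)).normalCore :=
    hmin _ (Subgroup.normalCore_normal _) hne
  have h2 : commutator L ≤ Subgroup.centralizer ({x} : Set L) :=
    h1.trans (Subgroup.normalCore_le _)
  -- `x` centralizes `L'`
  have hxc : x ∈ Subgroup.centralizer ((commutator L : Subgroup L) : Set L) := by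
    rw [Subgroup.mem_centralizer_iff]
    intro g hg
    have := h2 hg
    rw [Subgroup.mem_centralizer_iff] at this
    exact (this x rfl).symm
  have hN : (Subgroup.centralizer ((commutator L : Subgroup L) : Set L)).Normal := by
    have : (commutator L).Normal := by
      rw [commutator_def]; infer_instance
    exact Subgroup.normal_centralizer (H := commutator L)
  have hNne : Subgroup.centralizer ((commutator L : Subgroup L) : Set L) ≠ ⊥ := by
    intro h
    rw [h, Subgroup.mem_bot] at hxc
    exact hx hxc
  have h3 : commutator L ≤ Subgroup.centralizer ((commutator L : Subgroup L) : Set L) :=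
    hmin _ hN hNne
  intro a ha b hb
  have := h3 hb
  rw [Subgroup.mem_centralizer_iff] at this
  exact this a ha
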