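import Mathlib
import Cfsg.Agent.Lib.Helper15.IP.Defs
import Cfsg.Agent.Lib.Helper2.Expansion
import Cfsg.Agent.Lib.Helper2.Regular
import Cfsg.Agent.Lib.Helper25.CharBasic
import Cfsg.Agent.Lib.Helper22.Conj

/-!
# S4463 farm (helper15), leaf L11

[L11] `|L| = Σ χ(1)² ≤ k(L) b²` so `k(L) ≥ |L|/b² > b²`... precisely: if every nontrivial class had size
`> b²` then `|L| ≥ 1 + (k-1)(b²+1)`, while `|L| ≤ k b²`, giving `k ≤ b²`, then `|L| ≤ b⁴`: contradiction.
(`k = Nat.card (ConjClasses L) = #Irr`; library: Helper25 `sum_degree_sq`, card of IrrCharacter = card ConjClasses.)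
-/

set_option autoImplicit false

namespace Cfsg.Agent.Lib.Helper15.IP

open Cfsg
open scoped commutatorElement

universe u

variable {G : Type u} [Group G]

theorem exists_small_class {L : Type u} [Group L] [Finite L] {b : ℕ} (hL : DegLE L b)
    (hbig : b ^ 4 < Nat.card L) :
    ∃ x : L, x ≠ 1 ∧ (Subgroup.centralizer ({x} : Set L)).index ≤ b ^ 2 := by
  classical
  by_contra hcon
  push Not at hcon
  have : Fintype L := Fintype.ofFinite L
  have : Fintype (IrrCharacter L) := Fintype.ofFinite _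
  have : Fintype (ConjClasses L) := Fintype.ofFinite _
  -- `|L| = Σ deg²`
  have hsum : ∑ ψ : IrrCharacter L, charDegree (ψ : L → ℂ) ^ 2 = Nat.card L := by
    have h := Cfsg.Agent.Lib.Helper2.sum_irr_degree_sq (G := L)
    have h2 : ((∑ ψ : IrrCharacter L, charDegree (ψ : L → ℂ) ^ 2 : ℕ) : ℂ) = (Nat.card L : ℂ) := by
      rw [← h]
      push_cast
      apply Finset.sum_congr rfl
      intro ψ _
      rw [Cfsg.Agent.Lib.Helper25.char_one_eq_charDegree
        (Cfsg.Agent.Lib.Helper25.isCharacter_of_irr ψ.2)]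
    exact_mod_cast h2
  have h1 : Nat.card L ≤ Fintype.card (IrrCharacter L) * b ^ 2 := by
    rw [← hsum]
    calc ∑ ψ : IrrCharacter L, charDegree (ψ : L → ℂ) ^ 2
        ≤ ∑ _ψ : IrrCharacter L, b ^ 2 :=
          Finset.sum_le_sum (fun ψ _ => Nat.pow_le_pow_left (hL ψ) 2)
      _ = Fintype.card (IrrCharacter L) * b ^ 2 := by simp
  have hk : Fintype.card (IrrCharacter L) = Fintype.card (ConjClasses L) := by
    have := Cfsg.Agent.Lib.Helper2.card_irrCharacter (G := L)
    rwa [Nat.card_eq_fintype_card, Nat.card_eq_fintype_card] at this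
  -- class equation
  have hce : ∑ x : ConjClasses L, x.carrier.ncard = Nat.card L := by
    have := Group.sum_card_conj_classes_eq_card L
    rwa [finsum_eq_sum_of_fintype] at this
  have hC : ∀ C : ConjClasses L, C ≠ ConjClasses.mk 1 → b ^ 2 + 1 ≤ C.carrier.ncard := by
    intro C hC
    obtain ⟨x, rfl⟩ := ConjClasses.exists_rep C
    have hx : x ≠ 1 := by
      rintro rfl
      exact hC rfl
    have := hcon x hx
    rw [Cfsg.Agent.Lib.Helper22.index_centralizer_eq_ncard_carrier] at this
    omega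
  have h2 : 1 + (Fintype.card (ConjClasses L) - 1) * (b ^ 2 + 1) ≤ Nat.card L := by
    rw [← hce, ← Finset.add_sum_erase _ _ (Finset.mem_univ (ConjClasses.mk (1 : L)))]
    apply Nat.add_le_add
    · rw [Nat.one_le_iff_ne_zero, Ne, Set.ncard_eq_zero (Set.toFinite _)]
      intro h
      have : (1 : L) ∈ (ConjClasses.mk (1 : L)).carrier := ConjClasses.mem_carrier_mk
      rw [h] at this
      exact this
    · calc (Fintype.card (ConjClasses L) - 1) * (b ^ 2 + 1)
          = ∑ _x ∈ Finset.univ.erase (ConjClasses.mk (1 : L)), (b ^ 2 + 1) := by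
            rw [Finset.sum_const, Finset.card_erase_of_mem (Finset.mem_univ _), Finset.card_univ,
              smul_eq_mul]
        _ ≤ _ := Finset.sum_le_sum (fun C hC' => hC C (Finset.ne_of_mem_erase hC'))
  have hkpos : 0 < Fintype.card (ConjClasses L) := Fintype.card_pos
  rw [hk] at h1
  obtain ⟨k', hk'⟩ : ∃ k', Fintype.card (ConjClasses L) = k' + 1 :=
    ⟨Fintype.card (ConjClasses L) - 1, by omega⟩
  rw [hk'] at h1 h2
  rw [Nat.add_sub_cancel] at h2
  set B := b ^ 2 with hB
  have h3 : k' + 1 ≤ B := by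
    have e1 : k' * (B + 1) = k' * B + k' := by ring
    have e2 : (k' + 1) * B = k' * B + B := by ring
    rw [e1] at h2
    rw [e2] at h1
    omega
  have h4 : Nat.card L ≤ B * B := h1.trans (Nat.mul_le_mul_right B h3)
  have h5 : B * B = b ^ 4 := by rw [hB]; ring
  omega
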