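import Mathlib
import Cfsg.Agent.Lib.Helper15.IP.Defs
import Cfsg.Agent.Lib.Helper20.CD3Tools
import Cfsg.Agent.Lib.Helper11.Clifford

/-!
# S4463 farm (helper15), leaf L12

[L12] `G/K` nonabelian, `ψ ∈ Irr(K)`: then `2 ψ(1) ≤ b`. Take `χ ∈ Irr(G)` over `ψ`. If `χ|_K ≠ ψ` (not an
extension) then `χ(1) ≥ 2ψ(1)` (Clifford: `χ|_K = e Σ conjugates`, `e t ≥ 2`). If `χ|_K = ψ` then by Gallagher
`χ β ∈ Irr(G)` for `β ∈ Irr(G/K)` nonlinear (exists as `G/K` nonabelian), of degree `≥ 2ψ(1)`. (Library: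
Helper20/CD3Tools `gallagher_mul`, `restrict_eq_of_degree_eq`, Helper20/CD3Step2 for the same argument,
Helper7/Gallagher, `comm_iff_forall_irr_degree_one`.)
-/

set_option autoImplicit false

namespace Cfsg.Agent.Lib.Helper15.IP

open Cfsg
open scoped commutatorElement

universe u

variable {G : Type u} [Group G]

theorem degLE_half [Finite G] {b : ℕ} (hG : DegLE G b) (K : Subgroup G) [K.Normal]
    (hna : ¬ ∀ a b : G ⧸ K, a * b = b * a) : DegLE ↥K (b / 2) := by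
  classical
  have : Fintype G := Fintype.ofFinite G
  have : Fintype ↥K := Fintype.ofFinite ↥K
  intro ψ
  have hψc : IsCharacter ↥K (ψ : ↥K → ℂ) :=
    Cfsg.Agent.Lib.Helper2.IsIrrCharacter.isCharacter ψ.2
  have hind : IsCharacter G (indFun K (ψ : ↥K → ℂ)) :=
    Cfsg.Agent.Lib.Helper2.indFun_isCharacter K _ hψc
  have hne : indFun K (ψ : ↥K → ℂ) ≠ 0 := by
    intro h0
    have h1 := congrFun h0 1
    rw [Cfsg.Agent.Lib.Helper2.indFun_apply_one, Pi.zero_apply] at h1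
    rcases mul_eq_zero.1 h1 with h2 | h2
    · have : K.index ≠ 0 := Subgroup.index_ne_zero_of_finite
      exact this (by exact_mod_cast h2)
    · exact Cfsg.Agent.Lib.Helper2.IsIrrCharacter.apply_one_ne_zero ψ.2 h2
  obtain ⟨ξ, Ψ0, hΨ0, hsum0⟩ := Cfsg.Agent.Lib.Helper2.exists_irr_add_of_ne_zero hind hne
  have hξc : IsCharacter G (ξ : G → ℂ) := Cfsg.Agent.Lib.Helper2.IsIrrCharacter.isCharacter ξ.2
  have hξcf : IsClassFunction G (ξ : G → ℂ) :=
    Cfsg.Agent.Lib.Helper2.IsCharacter.isClassFunction hξc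
  have hcon : classInner (indFun K (ψ : ↥K → ℂ)) (ξ : G → ℂ) ≠ 0 := by
    obtain ⟨a, ha⟩ := Cfsg.Agent.Lib.Helper2.classInner_isCharacter_nat hΨ0 hξc
    rw [hsum0, Cfsg.Agent.Lib.Helper2.classInner_add_left,
      Cfsg.Agent.Lib.Helper2.classInner_irrCharacter_self, ha]
    have : (1 + a : ℕ) ≠ 0 := by omega
    exact_mod_cast this
  rw [Cfsg.Agent.Lib.Helper2.frobenius_reciprocity K _ _ hξcf] at hcon
  have hcon' : classInner (fun h : ↥K => (ξ : G → ℂ) h) (ψ : ↥K → ℂ) ≠ 0 := by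
    rw [← Cfsg.Agent.Lib.Helper2.classInner_conj_symm]
    exact fun h => hcon ((map_eq_zero _).1 h)
  have hres : IsCharacter ↥K (fun h : ↥K => (ξ : G → ℂ) h) :=
    Cfsg.Agent.Lib.Helper2.IsCharacter.restrict hξc K
  have ha : (fun h : ↥K => (ξ : G → ℂ) h) 1 = (charDegree (ξ : G → ℂ) : ℂ) := by
    show (ξ : G → ℂ) ((1 : ↥K) : G) = _
    rw [Subgroup.coe_one, Cfsg.Agent.Lib.Helper2.TwoDeg.apply_one_eq_charDegree ξ]
  have hb : (ψ : ↥K → ℂ) 1 = (charDegree (ψ : ↥K → ℂ) : ℂ) :=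
    Cfsg.Agent.Lib.Helper2.TwoDeg.apply_one_eq_charDegree ψ
  have hD : charDegree (ξ : G → ℂ) ≤ b := hG ξ
  suffices h2 : 2 * charDegree (ψ : ↥K → ℂ) ≤ b by
    rw [Nat.le_div_iff_mul_le two_pos]
    omega
  by_cases hext : (fun k : ↥K => (ξ : G → ℂ) k) = (ψ : ↥K → ℂ)
  · -- Gallagher
    have hex : ∃ β : IrrCharacter (G ⧸ K), (β : G ⧸ K → ℂ) 1 ≠ 1 := by
      by_contra hall
      have hall : ∀ β : IrrCharacter (G ⧸ K), (β : G ⧸ K → ℂ) 1 = 1 := by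
        intro β
        by_contra hβ
        exact hall ⟨β, hβ⟩
      exact hna ((Cfsg.Agent.Lib.Helper2.comm_iff_forall_irr_degree_one).2 hall)
    obtain ⟨β, hβ⟩ := hex
    obtain ⟨β', hβ'deg, hβ'val⟩ := Cfsg.Agent.Lib.Helper20.CD3.exists_inflation K β
    have hker : ∀ n ∈ K, (β' : G → ℂ) n = (β' : G → ℂ) 1 := by
      intro n hn
      rw [hβ'val, hβ'val]
      have hn1 : ((n : G) : G ⧸ K) = ((1 : G) : G ⧸ K) := by
        rw [QuotientGroup.mk_one]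
        exact (QuotientGroup.eq_one_iff n).2 hn
      rw [hn1]
    have hirr : IsIrrCharacter G ((β' : G → ℂ) * (ξ : G → ℂ)) :=
      Cfsg.Agent.Lib.Helper20.CD3.gallagher_mul K ξ.2 (by rw [hext]; exact ψ.2) β'.2 hker
    have hdeg := hG ⟨(β' : G → ℂ) * (ξ : G → ℂ), hirr⟩
    have hβ1 : (β : G ⧸ K → ℂ) 1 = (charDegree (β : G ⧸ K → ℂ) : ℂ) :=
      Cfsg.Agent.Lib.Helper2.TwoDeg.apply_one_eq_charDegree β
    obtain ⟨e, hepos, he⟩ := Cfsg.Agent.Lib.Helper2.IsIrrCharacter.apply_one β.2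
    have he2 : 2 ≤ charDegree (β : G ⧸ K → ℂ) := by
      rw [Cfsg.Agent.Lib.Helper2.ThompsonDeg.charDegree_eq he]
      rcases Nat.lt_or_ge e 2 with h | h
      · exfalso
        have h1 : e = 1 := by omega
        rw [h1, Nat.cast_one] at he
        exact hβ he
      · exact h
    have hξ1 : (ξ : G → ℂ) 1 = (charDegree (ψ : ↥K → ℂ) : ℂ) := by
      have := congrFun hext 1
      rw [hb] at this
      rw [← this]
      rfl
    have hprod : ((β' : G → ℂ) * (ξ : G → ℂ)) 1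
        = ((charDegree (β : G ⧸ K → ℂ) * charDegree (ψ : ↥K → ℂ) : ℕ) : ℂ) := by
      rw [Pi.mul_apply, hξ1, Cfsg.Agent.Lib.Helper2.TwoDeg.apply_one_eq_charDegree β', hβ'deg,
        Nat.cast_mul]
    have hdeg' : charDegree (β : G ⧸ K → ℂ) * charDegree (ψ : ↥K → ℂ) ≤ b := by
      have := Cfsg.Agent.Lib.Helper2.ThompsonDeg.charDegree_eq hprod
      simp only at hdeg
      rw [this] at hdeg
      exact hdeg
    calc 2 * charDegree (ψ : ↥K → ℂ)
        ≤ charDegree (β : G ⧸ K → ℂ) * charDegree (ψ : ↥K → ℂ) := Nat.mul_le_mul_right _ he2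
      _ ≤ b := hdeg'
  · -- Clifford
    obtain ⟨Ψ, hΨ, hsum⟩ :=
      Cfsg.Agent.Lib.Helper2.exists_add_of_classInner_ne_zero hres ψ hcon'
    have hΨne : Ψ ≠ 0 := by
      intro h0
      apply hext
      rw [hsum, h0, add_zero]
    obtain ⟨φ, Ψ', hΨ', hsum'⟩ := Cfsg.Agent.Lib.Helper2.exists_irr_add_of_ne_zero hΨ hΨne
    have hφc : IsCharacter ↥K (φ : ↥K → ℂ) :=
      Cfsg.Agent.Lib.Helper2.IsIrrCharacter.isCharacter φ.2
    have hconφ : classInner (fun h : ↥K => (ξ : G → ℂ) h) (φ : ↥K → ℂ) ≠ 0 := by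
      obtain ⟨a, ha'⟩ := Cfsg.Agent.Lib.Helper2.classInner_isCharacter_nat hψc hφc
      obtain ⟨c, hc⟩ := Cfsg.Agent.Lib.Helper2.classInner_isCharacter_nat hΨ' hφc
      rw [hsum, hsum', Cfsg.Agent.Lib.Helper2.classInner_add_left,
        Cfsg.Agent.Lib.Helper2.classInner_add_left,
        Cfsg.Agent.Lib.Helper2.classInner_irrCharacter_self, ha', hc]
      have : (a + (1 + c) : ℕ) ≠ 0 := by omega
      exact_mod_cast this
    obtain ⟨g, hg⟩ := Cfsg.Agent.Lib.Helper11.clifford_conj K ξ.2 ψ.2 φ.2 hcon' hconφ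
    have hφ1 : (φ : ↥K → ℂ) 1 = (ψ : ↥K → ℂ) 1 := by
      rw [hg, Cfsg.Agent.Lib.Helper11.conjFn_apply]
      have h1K : (⟨g * ((1 : ↥K) : G) * g⁻¹, (inferInstance : K.Normal).conj_mem _ (1 : ↥K).2 g⟩ : ↥K)
          = 1 := by
        apply Subtype.ext
        simp
      rw [h1K]
    obtain ⟨c, hc⟩ := Cfsg.Agent.Lib.Helper2.IsCharacter.apply_one hΨ'
    have h1 : (fun h : ↥K => (ξ : G → ℂ) h) 1
        = (ψ : ↥K → ℂ) 1 + ((φ : ↥K → ℂ) 1 + Ψ' 1) := by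
      rw [hsum, hsum']
      rfl
    rw [ha, hφ1, hb, hc] at h1
    have h3 : charDegree (ξ : G → ℂ)
        = charDegree (ψ : ↥K → ℂ) + (charDegree (ψ : ↥K → ℂ) + c) := by
      exact_mod_cast h1
    omega

end Cfsg.Agent.Lib.Helper15.IP
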