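import Mathlib
import Cfsg.Agent.Lib.Helper15.IP.Defs

/-!
# S4463 farm (helper15), leaf L13

[L13] arithmetic: `b ≥ 5`, `c ≤ b/2` ⇒ `b⁴ (c!)² ≤ (b!)²`, i.e. `b² c! ≤ b!`. Since `b!/c! ≥ b(b-1)(b-2)` when
`c ≤ b-3`... for `b ≥ 6`, `c ≤ b/2 ≤ b-3` and `(b-1)(b-2) ≥ b`; `b = 5`: `c ≤ 2`, `25·2 ≤ 120`.
-/

set_option autoImplicit false

namespace Cfsg.Agent.Lib.Helper15.IP

open Cfsg
open scoped commutatorElement

universe u

variable {G : Type u} [Group G]

theorem arith_five {b c : ℕ} (hb : 5 ≤ b) (hc : c ≤ b / 2) :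
    b ^ 4 * (Nat.factorial c) ^ 2 ≤ (Nat.factorial b) ^ 2 := by
  have key : b ^ 2 * c.factorial ≤ b.factorial := by
    rcases Nat.lt_or_ge b 6 with h6 | h6
    · have hb5 : b = 5 := by omega
      subst hb5
      have hc2 : c ≤ 2 := by omega
      interval_cases c <;> decide
    · obtain ⟨k, rfl⟩ : ∃ k, b = k + 3 := ⟨b - 3, by omega⟩
      have hck : c ≤ k := by omega
      have h1 : c.factorial ≤ k.factorial := Nat.factorial_le hck
      have h2 : (k + 3).factorial = (k + 3) * ((k + 2) * ((k + 1) * k.factorial)) := by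
        rw [Nat.factorial_succ, Nat.factorial_succ, Nat.factorial_succ]
      rw [h2]
      have h3 : (k + 3) ^ 2 ≤ (k + 3) * ((k + 2) * (k + 1)) := by nlinarith
      calc (k + 3) ^ 2 * c.factorial ≤ (k + 3) ^ 2 * k.factorial := Nat.mul_le_mul_left _ h1
        _ ≤ ((k + 3) * ((k + 2) * (k + 1))) * k.factorial := Nat.mul_le_mul_right _ h3
        _ = (k + 3) * ((k + 2) * ((k + 1) * k.factorial)) := by ring
  calc b ^ 4 * (c.factorial) ^ 2 = (b ^ 2 * c.factorial) ^ 2 := by ring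
    _ ≤ (b.factorial) ^ 2 := Nat.pow_le_pow_left key 2

end Cfsg.Agent.Lib.Helper15.IP
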