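import Mathlib
import Cfsg.Agent.Lib.Helper15.IP.Defs
import Cfsg.Agent.Lib.Helper25.Codegree

/-!
# S4463 farm (helper15), leaf L14

[L14] a nonabelian finite simple group has no irreducible character of degree 2: `det ρ` is a linear
character of a perfect group, so `ρ : S → SL₂(ℂ)` faithful (simple, nontrivial); `|S|` is even (degree divides
order; or Cauchy after `2 ∣ |S|` from `χ(1) ∣ |S|`), take an involution `t`; `ρ(t)² = 1`, `det = 1` ⇒ `ρ(t) = ±1`
... `ρ(t) = -1` central ⇒ `t ∈ Z(S) = 1`, contradiction. (You need a representation affording `χ`: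
Prelude `IsCharacter`/`IrrCharacter` definitions give one.)
-/

set_option autoImplicit false

namespace Cfsg.Agent.Lib.Helper15.IP

open Cfsg
open scoped commutatorElement

universe u

namespace L14

/-- a `2 × 2` complex matrix with `M * M = 1` and `det M = 1` is `1` or `-1` -/
theorem mat_two (M : Matrix (Fin 2) (Fin 2) ℂ) (h2 : M * M = 1) (hd : M.det = 1) :
    M = 1 ∨ M = -1 := by
  rw [Matrix.det_fin_two] at hd
  have e00 := congrFun (congrFun h2 0) 0
  have e01 := congrFun (congrFun h2 0) 1
  have e10 := congrFun (congrFun h2 1) 0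
  have e11 := congrFun (congrFun h2 1) 1
  simp only [Matrix.mul_apply, Fin.sum_univ_two, Matrix.one_apply_eq, Matrix.one_apply_ne,
    ne_eq, not_false_eq_true, Fin.isValue, zero_ne_one, one_ne_zero] at e00 e01 e10 e11
  set a := M 0 0 with ha
  set b := M 0 1 with hb
  set c := M 1 0 with hc
  set d := M 1 1 with hdd
  -- e00 : a*a + b*c = 1, e01 : a*b + b*d = 0, e10 : c*a + d*c = 0, e11 : c*b + d*d = 1, hd : a*d - b*c = 1
  have hs : a + d ≠ 0 := by
    intro h0
    have hda : d = -a := by linear_combination h0
    rw [hda] at hd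
    have : (2 : ℂ) = 0 := by linear_combination -(e00 + hd)
    norm_num at this
  have hb0 : b = 0 := by
    have : b * (a + d) = 0 := by linear_combination e01
    rcases mul_eq_zero.1 this with h | h
    · exact h
    · exact absurd h hs
  have hc0 : c = 0 := by
    have : c * (a + d) = 0 := by linear_combination e10
    rcases mul_eq_zero.1 this with h | h
    · exact h
    · exact absurd h hs
  rw [hb0, hc0] at hd e00 e11
  have haa : a * a = 1 := by linear_combination e00
  have had : a * d = 1 := by linear_combination hd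
  have hda : d = a := by
    have : a * (d - a) = 0 := by linear_combination had - haa
    rcases mul_eq_zero.1 this with h | h
    · rw [h] at haa; simp at haa
    · linear_combination h
  have ha1 : (a - 1) * (a + 1) = 0 := by linear_combination haa
  rcases mul_eq_zero.1 ha1 with h | h
  · left
    have ha' : a = 1 := by linear_combination h
    ext i j
    fin_cases i <;> fin_cases j <;> simp [← ha, ← hb, ← hc, ← hdd, hb0, hc0, hda, ha']
  · right
    have ha' : a = -1 := by linear_combination h
    ext i j
    fin_cases i <;> fin_cases j <;> simp [← ha, ← hb, ← hc, ← hdd, hb0, hc0, hda, ha']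

end L14

variable {G : Type u} [Group G]

theorem no_degree_two {S : Type u} [Group S] [Finite S] [IsSimpleGroup S]
    (hna : ¬ ∀ a b : S, a * b = b * a) (χ : IrrCharacter S) :
    charDegree (χ : S → ℂ) ≠ 2 := by
  intro hdeg
  haveI := Fintype.ofFinite S
  obtain ⟨χf, hχ⟩ := χ
  have hχ' := hχ
  have hdvd := Cfsg.Agent.Lib.Helper25.charDegree_dvd_card hχ
  simp only at hdeg
  rw [hdeg] at hdvd
  obtain ⟨n, ρ, hirr, hρχ⟩ := hχ
  have hn : n = 2 := by
    rw [← Cfsg.Agent.Lib.Helper25.charDegree_rep ρ, hρχ, hdeg]
  subst hn
  -- an involution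
  have : Fact (Nat.Prime 2) := ⟨Nat.prime_two⟩
  obtain ⟨t, ht⟩ := exists_prime_orderOf_dvd_card' 2 hdvd
  have ht1 : t ≠ 1 := by
    intro h
    rw [h, orderOf_one] at ht
    norm_num at ht
  have htt : t * t = 1 := by
    have := pow_orderOf_eq_one t
    rw [ht, sq] at this
    exact this
  -- the determinant is trivial
  let d : S →* ℂ := LinearMap.det.comp ρ
  have hdet : ∀ g : S, LinearMap.det (ρ g) = 1 := by
    have hker : d.ker = ⊥ ∨ d.ker = ⊤ := (MonoidHom.normal_ker d).eq_bot_or_eq_top
    rcases hker with h | h
    · exfalso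
      apply hna
      intro a b
      have hinj := (MonoidHom.ker_eq_bot_iff d).1 h
      apply hinj
      rw [map_mul, map_mul, mul_comm]
    · intro g
      have hg : g ∈ d.ker := h ▸ Subgroup.mem_top g
      exact MonoidHom.mem_ker.1 hg
  -- `ρ t = ± 1`
  have hAA : ρ t * ρ t = 1 := by rw [← map_mul, htt, map_one]
  have hM : LinearMap.toMatrix' (ρ t) = 1 ∨ LinearMap.toMatrix' (ρ t) = -1 := by
    apply L14.mat_two
    · rw [← LinearMap.toMatrix'_mul, hAA, LinearMap.toMatrix'_one]
    · rw [LinearMap.det_toMatrix', hdet t]
  have hA : ρ t = 1 ∨ ρ t = -1 := by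
    rcases hM with h | h
    · left
      apply LinearMap.toMatrix'.injective
      rw [h, LinearMap.toMatrix'_one]
    · right
      apply LinearMap.toMatrix'.injective
      rw [h, map_neg, LinearMap.toMatrix'_one]
  have hne : (1 : (Fin 2 → ℂ) →ₗ[ℂ] (Fin 2 → ℂ)) ≠ -1 := by
    intro h
    have h1 := congrFun (LinearMap.congr_fun h (fun _ => 1)) 0
    simp at h1
    norm_num at h1
  have hkerρ : (MonoidHom.ker ρ) = ⊥ ∨ (MonoidHom.ker ρ) = ⊤ :=
    (MonoidHom.normal_ker ρ).eq_bot_or_eq_top
  -- if the kernel is everything, `χ` is constant `2`, contradicting `⟨χ, χ⟩ = 1`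
  have htop : MonoidHom.ker ρ ≠ ⊤ := by
    intro h
    have hall : ∀ g : S, ρ g = 1 := fun g => MonoidHom.mem_ker.1 (h ▸ Subgroup.mem_top g)
    have hval : ∀ g : S, χf g = 2 := by
      intro g
      rw [← hρχ]
      simp [Representation.character, hall g]
    have hinner := Cfsg.Agent.Lib.Helper25.irr_classInner hχ' hχ'
    rw [if_pos rfl] at hinner
    unfold classInner at hinner
    simp only [hval, map_ofNat, Finset.sum_const, Finset.card_univ, nsmul_eq_mul] at hinner
    have hc : (Nat.card S : ℂ) ≠ 0 := by exact_mod_cast (Nat.card_pos (α := S)).ne'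
    rw [← Nat.card_eq_fintype_card] at hinner
    field_simp at hinner
    norm_num at hinner
  rcases hA with hA | hA
  · -- `t` lies in the kernel
    have htk : t ∈ MonoidHom.ker ρ := MonoidHom.mem_ker.2 hA
    rcases hkerρ with h | h
    · rw [h, Subgroup.mem_bot] at htk
      exact ht1 htk
    · exact htop h
  · rcases hkerρ with h | h
    · -- `ρ` injective, so `t` is central
      have hinj := (MonoidHom.ker_eq_bot_iff ρ).1 h
      have htc : t ∈ Subgroup.center S := by
        rw [Subgroup.mem_center_iff]
        intro g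
        apply hinj
        rw [map_mul, map_mul, hA]
        apply LinearMap.ext
        intro v
        simp [Module.End.mul_apply]
      have hcen : Subgroup.center S = ⊥ ∨ Subgroup.center S = ⊤ :=
        (inferInstance : (Subgroup.center S).Normal).eq_bot_or_eq_top
      rcases hcen with hc | hc
      · rw [hc, Subgroup.mem_bot] at htc
        exact ht1 htc
      · apply hna
        intro a b
        have ha : a ∈ Subgroup.center S := hc ▸ Subgroup.mem_top a
        rw [Subgroup.mem_center_iff] at ha
        exact (ha b).symm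
    · exact htop h

end Cfsg.Agent.Lib.Helper15.IP
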