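import Mathlib
import Cfsg.Agent.Lib.Helper15.IP.Defs
import Cfsg.Agent.Lib.Helper15.IP.L14
import Cfsg.Agent.S4458
import Cfsg.Agent.S4460
import Cfsg.Agent.Lib.Helper2.TwoDegrees
import Cfsg.Agent.Lib.Helper25.Linear
import Cfsg.Agent.Lib.Helper24.SLB.Q

/-!
# S4463 farm (helper15), leaf L15

[L15] a nonabelian simple group has a character of degree `≥ 5`: nonabelian ⇒ some nonlinear irreducible
`χ` (all linear ⇒ abelian), of degree 2, 3 or 4 if `DegLE S 4`; degree 2 impossible (L14); so the set of degrees
is `{1,3}`, `{1,4}` or `{1,3,4}`: the first two contradict the LANDED `Cfsg.Agent.S4458.result` (two degrees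
give an abelian commutator subgroup, but `S` is perfect), the last `Cfsg.Agent.S4460.result` (three degrees give
derived length at most 3).
-/

set_option autoImplicit false

namespace Cfsg.Agent.Lib.Helper15.IP

open Cfsg
open scoped commutatorElement

universe u

variable {G : Type u} [Group G]

namespace L15

theorem commutator_eq_top {S : Type u} [Group S] [IsSimpleGroup S]
    (hna : ¬ ∀ a b : S, a * b = b * a) : commutator S = ⊤ := by
  rcases (inferInstance : (commutator S).Normal).eq_bot_or_eq_top with h0 | h0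
  · exfalso
    apply hna
    intro a b
    have hm : ⁅a, b⁆ ∈ commutator S := by
      rw [commutator_def]
      exact Subgroup.commutator_mem_commutator (Subgroup.mem_top a) (Subgroup.mem_top b)
    rw [h0, Subgroup.mem_bot] at hm
    exact commutatorElement_eq_one_iff_mul_comm.mp hm
  · exact h0

theorem derivedSeries_eq_top {S : Type u} [Group S] (hc : commutator S = ⊤) (n : ℕ) :
    derivedSeries S n = ⊤ := by
  induction n with
  | zero => rfl
  | succ n ih =>
    rw [derivedSeries_succ, ih, ← commutator_def, hc]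

theorem irrOne_degree (S : Type u) [Group S] :
    charDegree ((Cfsg.Agent.Lib.Helper25.irrOne S : IrrCharacter S) : S → ℂ) = 1 := by
  apply Cfsg.Agent.Lib.Helper2.ThompsonDeg.charDegree_eq
  simp [Cfsg.Agent.Lib.Helper25.irrOne]

end L15

theorem simple_not_degLE_four {S : Type u} [Group S] [Finite S] [IsSimpleGroup S]
    (hna : ¬ ∀ a b : S, a * b = b * a) : ¬ DegLE S 4 := by
  intro h
  have hcomm : commutator S = ⊤ := L15.commutator_eq_top hna
  have hdeg : ∀ χ : IrrCharacter S, charDegree (χ : S → ℂ) = 1 ∨
      charDegree (χ : S → ℂ) = 3 ∨ charDegree (χ : S → ℂ) = 4 := by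
    intro χ
    have h1 := h χ
    have h2 := no_degree_two hna χ
    have h3 := Cfsg.Agent.Lib.Helper24.SLB.charDegree_pos_of_irr χ
    omega
  -- the two-degree contradiction
  have two : ∀ m : ℕ, m ≠ 1 →
      (∀ χ : IrrCharacter S, charDegree (χ : S → ℂ) = 1 ∨ charDegree (χ : S → ℂ) = m) →
      (∃ χ : IrrCharacter S, charDegree (χ : S → ℂ) = m) → False := by
    intro m hm1 hcd hm
    have hab := Cfsg.Agent.S4458.result m hcd hm hm1
    apply hna
    intro a b
    exact hab a (by rw [hcomm]; exact Subgroup.mem_top a) b (by rw [hcomm]; exact Subgroup.mem_top b)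
  by_cases h3 : ∃ χ : IrrCharacter S, charDegree (χ : S → ℂ) = 3
  · by_cases h4 : ∃ χ : IrrCharacter S, charDegree (χ : S → ℂ) = 4
    · have hset : {n : ℕ | ∃ χ : IrrCharacter S, charDegree (χ : S → ℂ) = n} = {1, 3, 4} := by
        ext n
        constructor
        · rintro ⟨χ, rfl⟩
          rcases hdeg χ with h | h | h <;> simp [h]
        · rintro (rfl | rfl | rfl)
          · exact ⟨Cfsg.Agent.Lib.Helper25.irrOne S, L15.irrOne_degree S⟩
          · exact h3
          · exact h4
      have hcard : Nat.card {n : ℕ // ∃ χ : IrrCharacter S, charDegree (χ : S → ℂ) = n} = 3 := by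
        have h1 : Nat.card ↥({n : ℕ | ∃ χ : IrrCharacter S, charDegree (χ : S → ℂ) = n}) = 3 := by
          rw [hset, Nat.card_coe_set_eq]
          have : ({1, 3, 4} : Set ℕ) = ((({1, 3, 4} : Finset ℕ)) : Set ℕ) := by simp
          rw [this, Set.ncard_coe_finset]
          rfl
        exact h1
      have hds := Cfsg.Agent.S4460.result hcard
      rw [L15.derivedSeries_eq_top hcomm 3] at hds
      apply hna
      intro a b
      have ha : a ∈ (⊤ : Subgroup S) := Subgroup.mem_top a
      have hb : b ∈ (⊤ : Subgroup S) := Subgroup.mem_top b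
      rw [hds, Subgroup.mem_bot] at ha hb
      rw [ha, hb]
    · refine two 3 (by norm_num) (fun χ => ?_) h3
      rcases hdeg χ with h | h | h
      · exact Or.inl h
      · exact Or.inr h
      · exact absurd ⟨χ, h⟩ h4
  · by_cases h4 : ∃ χ : IrrCharacter S, charDegree (χ : S → ℂ) = 4
    · refine two 4 (by norm_num) (fun χ => ?_) h4
      rcases hdeg χ with h | h | h
      · exact Or.inl h
      · exact absurd ⟨χ, h⟩ h3
      · exact Or.inr h
    · apply hna
      rw [Cfsg.Agent.Lib.Helper2.comm_iff_forall_irr_degree_one]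
      intro χ
      rw [Cfsg.Agent.Lib.Helper2.TwoDeg.apply_one_eq_charDegree]
      rcases hdeg χ with h | h | h
      · rw [h]; simp
      · exact absurd ⟨χ, h⟩ h3
      · exact absurd ⟨χ, h⟩ h4

end Cfsg.Agent.Lib.Helper15.IP
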