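import Mathlib
import Cfsg.Agent.Lib.Helper15.IP.Defs
import Cfsg.Agent.Lib.Helper15.IP.L01
import Cfsg.Agent.Lib.Helper15.IP.L03
import Cfsg.Agent.Lib.Helper15.IP.L15

/-!
# S4463 farm (helper15), leaf L16

[L16] `b(X) ≤ 4 ⇒ X` solvable, by strong induction on `|X|`: if `X` is simple use L15 (abelian simple is
solvable); otherwise pick a proper nontrivial normal `N`; `N` and `X/N` satisfy `DegLE _ 4` (L01, L03) and are
solvable by induction; conclude with `solvable_of_ker_le_range` or similar.
-/

set_option autoImplicit false

namespace Cfsg.Agent.Lib.Helper15.IP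

open Cfsg
open scoped commutatorElement

universe u

variable {G : Type u} [Group G]

theorem solvable_of_degLE_four : ∀ (n : ℕ) (X : Type u) [Group X] [Finite X],
    Nat.card X = n → DegLE X 4 → Group.IsSolvable X := by
  intro n
  induction n using Nat.strong_induction_on with
  | _ n ih =>
    intro X _ _ hcard hdeg
    by_cases hN : ∃ N : Subgroup X, N.Normal ∧ N ≠ ⊥ ∧ N ≠ ⊤
    · obtain ⟨N, hNn, hbot, htop⟩ := hN
      haveI := hNn
      have hmul : Nat.card N * N.index = Nat.card X := Subgroup.card_mul_index N
      have hXpos : 0 < Nat.card X := Nat.card_pos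
      have hNpos : 0 < Nat.card N := Nat.card_pos
      have hipos : 0 < N.index := Nat.pos_of_ne_zero (Subgroup.index_ne_zero_of_finite)
      have hN1 : Nat.card N ≠ 1 := by
        intro h
        exact hbot (Subgroup.card_eq_one.mp h)
      have hi1 : N.index ≠ 1 := by
        intro h
        exact htop (Subgroup.index_eq_one.mp h)
      have hNcard : Nat.card N < n := by
        rw [← hcard, ← hmul]
        have : 2 ≤ N.index := by omega
        nlinarith
      have hQcard : Nat.card (X ⧸ N) < n := by
        rw [← hcard, ← hmul]
        have h2 : 2 ≤ Nat.card N := by omega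
        have h3 : Nat.card (X ⧸ N) = N.index := rfl
        rw [h3]
        nlinarith
      have hNs : Group.IsSolvable N := ih _ hNcard N rfl (degLE_subgroup hdeg N)
      have hQs : Group.IsSolvable (X ⧸ N) := ih _ hQcard (X ⧸ N) rfl (degLE_quotient hdeg N)
      exact (Group.isSolvable_iff_subgroup_quotient N).mpr ⟨hNs, hQs⟩
    · push_neg at hN
      by_cases htriv : Subsingleton X
      · infer_instance
      · haveI : Nontrivial X := not_subsingleton_iff_nontrivial.mp htriv
        haveI : IsSimpleGroup X := ⟨fun H hH => by
          by_contra h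
          push_neg at h
          exact h.2 (hN H hH h.1)⟩
        by_cases hab : ∀ a b : X, a * b = b * a
        · exact Group.isSolvable_of_comm hab
        · exact absurd hdeg (simple_not_degLE_four hab)

end Cfsg.Agent.Lib.Helper15.IP
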