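import Mathlib
import Cfsg.Agent.Lib.Helper15.IP.Defs

/-!
# S4463 farm (helper15), leaf L17

[L17] `L` solvable with unique minimal normal subgroup property `hmin` ⇒ `L'` abelian: `L'' ` is normal
(characteristic in `L'`); if `L'' ≠ ⊥` then `L' ≤ L''`, so `L' = L''`, and solvable forces `L' = ⊥`, abelian anyway.
-/

set_option autoImplicit false

namespace Cfsg.Agent.Lib.Helper15.IP

open Cfsg
open scoped commutatorElement

universe u

variable {G : Type u} [Group G]

theorem comm_abelian_of_solvable {L : Type u} [Group L] [Finite L] (hsol : Group.IsSolvable L)
    (hmin : ∀ N : Subgroup L, N.Normal → N ≠ ⊥ → commutator L ≤ N) :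
    ∀ a ∈ commutator L, ∀ b ∈ commutator L, a * b = b * a := by
  classical
  have hDnormal : (commutator L).Normal := inferInstance
  have hD2normal : (⁅commutator L, commutator L⁆ : Subgroup L).Normal :=
    Subgroup.commutator_normal (commutator L) (commutator L)
  by_cases h2 : (⁅commutator L, commutator L⁆ : Subgroup L) = ⊥
  · intro a ha b hb
    have h3 : ⁅a, b⁆ ∈ (⁅commutator L, commutator L⁆ : Subgroup L) :=
      Subgroup.commutator_mem_commutator ha hb
    rw [h2, Subgroup.mem_bot, commutatorElement_def] at h3
    have h4 : a * b = (a * b * a⁻¹ * b⁻¹) * (b * a) := by group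
    rw [h4, h3, one_mul]
  · exfalso
    have hle : commutator L ≤ ⁅commutator L, commutator L⁆ := hmin _ hD2normal h2
    have hle2 : (⁅commutator L, commutator L⁆ : Subgroup L) ≤ commutator L :=
      Subgroup.commutator_le_left (commutator L) (commutator L)
    have heq : (⁅commutator L, commutator L⁆ : Subgroup L) = commutator L :=
      le_antisymm hle2 hle
    have hser : ∀ n : ℕ, derivedSeries L (n + 1) = commutator L := by
      intro n
      induction n with
      | zero =>
        rw [derivedSeries_succ, derivedSeries_zero]
        exact (commutator_def L).symm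
      | succ k ih =>
        rw [derivedSeries_succ, ih]
        exact heq
    obtain ⟨n, hn⟩ := hsol.solvable
    have hDbot : commutator L = ⊥ := by
      cases n with
      | zero =>
        rw [derivedSeries_zero] at hn
        rw [eq_bot_iff, ← hn]
        exact le_top
      | succ k =>
        rw [hser k] at hn
        exact hn
    apply h2
    rw [hDbot]
    exact Subgroup.commutator_bot_left ⊥

end Cfsg.Agent.Lib.Helper15.IP
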