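import Mathlib
import Cfsg.Agent.Lib.Helper15.IP.Defs
import Cfsg.Agent.Lib.Helper2.GaloisConjPGroup
import Cfsg.Agent.Lib.Helper24.CentralCase
import Cfsg.Agent.Lib.Helper24.CentralTypeQuot
import Cfsg.Agent.Lib.Helper25.CharBasic
import Cfsg.Agent.Lib.Helper25.Kernel

/-!
# S4463 farm (helper15), leaf L18

[L18] `L` a nonabelian `p`-group in which every nontrivial normal subgroup contains `L'`: then `|L'| = p`,
`L' ≤ Z(L)`, and a faithful-on-`L'` irreducible `θ` (nonlinear, any nonlinear irreducible works) vanishes off `Z(L)`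
with `θ(1)² = |L : Z(L)|`. Sketch: `Z(L) ≠ 1` so `L' ≤ Z(L)`; every subgroup of order `p` of `Z(L) `is normal hence
contains `L'`, so `|L'| = p` and `Z(L)` is cyclic. For nonlinear `θ`: `ker θ` is normal, does not contain `L'`, so is
trivial. For `x ∉ Z(L)` pick `g` with `z = [x,g] ≠ 1`, `z ∈ L' ≤ Z`; `θ(x) = θ(x^g) = θ(xz) = ω θ(x)` with
`ω = θ(z)/θ(1) ≠ 1` (faithful). So `θ` vanishes off `Z`, and `|L| = Σ_{Z}|θ|² = |Z| θ(1)²`.
-/

set_option autoImplicit false

namespace Cfsg.Agent.Lib.Helper15.IP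

open Cfsg
open scoped commutatorElement

universe u

variable {G : Type u} [Group G]

theorem exists_ramified {L : Type u} [Group L] [Finite L] {p : ℕ} (hp : p.Prime)
    (hL : IsPGroup p L) (hna : ¬ ∀ a b : L, a * b = b * a)
    (hmin : ∀ N : Subgroup L, N.Normal → N ≠ ⊥ → commutator L ≤ N) :
    ∃ θ : IrrCharacter L, 2 ≤ charDegree (θ : L → ℂ) ∧
      (∀ x : L, x ∉ Subgroup.center L → (θ : L → ℂ) x = 0) ∧
      (charDegree (θ : L → ℂ)) ^ 2 = (Subgroup.center L).index := by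
  classical
  haveI : Fintype L := Fintype.ofFinite L
  haveI : Fact p.Prime := ⟨hp⟩
  haveI : Nontrivial L := by
    by_contra h
    rw [not_nontrivial_iff_subsingleton] at h
    exact hna (fun a b => Subsingleton.elim _ _)
  -- the centre is nontrivial, hence contains `L'`
  have hZ : Subgroup.center L ≠ ⊥ := by
    haveI := hL.center_nontrivial
    exact (Subgroup.nontrivial_iff_ne_bot _).1 inferInstance
  have hLZ : commutator L ≤ Subgroup.center L := hmin _ inferInstance hZ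
  obtain ⟨θ, hθ1⟩ := Cfsg.Agent.Lib.Helper2.GCP.exists_nonlinear hna
  have hchar : IsCharacter L (θ : L → ℂ) := Cfsg.Agent.Lib.Helper25.isCharacter_of_irr θ.2
  have hdeg : (θ : L → ℂ) 1 = charDegree (θ : L → ℂ) :=
    Cfsg.Agent.Lib.Helper25.char_one_eq_charDegree hchar
  have hpos : 0 < charDegree (θ : L → ℂ) := Cfsg.Agent.Lib.Helper25.irr_degree_pos θ.2
  have h2 : 2 ≤ charDegree (θ : L → ℂ) := by
    have hne : charDegree (θ : L → ℂ) ≠ 1 := by
      intro h
      apply hθ1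
      rw [hdeg, h]
      norm_num
    omega
  -- `θ` is faithful
  have hfaith : ∀ g : L, (θ : L → ℂ) g = (θ : L → ℂ) 1 → g = 1 := by
    intro g hg
    obtain ⟨K, hKn, hK⟩ := Cfsg.Agent.Lib.Helper25.exists_kernel hchar
    by_contra hg1
    have hKne : K ≠ ⊥ := by
      intro h
      have : g ∈ K := (hK g).2 hg
      rw [h, Subgroup.mem_bot] at this
      exact hg1 this
    have hLK := hmin K hKn hKne
    exact hθ1 (Cfsg.Agent.Lib.Helper2.GCP.degree_one_of_commutator_le_ker θ.2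
      (fun x hx => (hK x).1 (hLK hx)))
  -- `θ` vanishes off the centre
  have hvan : ∀ x : L, x ∉ Subgroup.center L → (θ : L → ℂ) x = 0 := by
    intro x hx
    rw [Subgroup.mem_center_iff] at hx
    push Not at hx
    obtain ⟨g, hg⟩ := hx
    by_contra hne
    have hzc : x⁻¹ * g⁻¹ * x * g ∈ commutator L := by
      have := Cfsg.Agent.Lib.Helper2.GCP.commutatorElement_mem x⁻¹ g⁻¹
      rwa [commutatorElement_def, inv_inv, inv_inv] at this
    have hzZ := hLZ hzc
    have hcf := Cfsg.Agent.Lib.Helper25.isClassFunction_of_char hchar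
    have e0 : (x⁻¹ * g⁻¹ * x * g) * x = g⁻¹ * x * (g⁻¹)⁻¹ := by
      rw [← Subgroup.mem_center_iff.mp hzZ x]
      group
    have e1 : (θ : L → ℂ) ((x⁻¹ * g⁻¹ * x * g) * x) = (θ : L → ℂ) x := by
      rw [e0]
      exact hcf x g⁻¹
    have e2 := Cfsg.Agent.Lib.Helper24.CentralCase.central_mul θ.2 hzZ x
    rw [e1] at e2
    have e3 : (θ : L → ℂ) (x⁻¹ * g⁻¹ * x * g) = (θ : L → ℂ) 1 := by
      apply mul_right_cancel₀ hne
      rw [← e2]
      ring
    have hz1 := hfaith _ e3
    apply hg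
    have h := congrArg (fun t => g * x * t) hz1
    simp only [mul_one] at h
    have h' : g * x * (x⁻¹ * g⁻¹ * x * g) = x * g := by group
    rw [h'] at h
    exact h.symm
  refine ⟨θ, h2, hvan, ?_⟩
  -- `|L| = Σ |θ|² = |Z| θ(1)²`
  obtain ⟨n, ρ, hirr, hρ⟩ := θ.2
  have hsum : ∑ g : L, (θ : L → ℂ) g * (starRingEnd ℂ) ((θ : L → ℂ) g) = (Nat.card L : ℂ) := by
    rw [← hρ]
    exact Cfsg.Agent.Lib.Helper24.CentralType.sum_normSq ρ hirr
  have hcen : ∀ z : L, z ∈ Subgroup.center L →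
      (θ : L → ℂ) z * (starRingEnd ℂ) ((θ : L → ℂ) z)
        = ((charDegree (θ : L → ℂ) : ℕ) : ℂ) ^ 2 := by
    intro z hz
    have e := Cfsg.Agent.Lib.Helper24.CentralCase.central_mul θ.2 hz z⁻¹
    rw [mul_inv_cancel, Cfsg.Agent.Lib.Helper25.char_inv hchar z, hdeg] at e
    rw [← e]
    ring
  rw [← Finset.sum_filter_add_sum_filter_not Finset.univ (fun g : L => g ∈ Subgroup.center L)]
    at hsum
  have h0 : ∑ g ∈ Finset.univ.filter (fun g : L => ¬ g ∈ Subgroup.center L),
      (θ : L → ℂ) g * (starRingEnd ℂ) ((θ : L → ℂ) g) = 0 := by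
    apply Finset.sum_eq_zero
    intro g hg
    rw [hvan g (Finset.mem_filter.1 hg).2, zero_mul]
  have h1 : ∑ g ∈ Finset.univ.filter (fun g : L => g ∈ Subgroup.center L),
      (θ : L → ℂ) g * (starRingEnd ℂ) ((θ : L → ℂ) g)
        = (Nat.card (Subgroup.center L) : ℂ) * ((charDegree (θ : L → ℂ) : ℕ) : ℂ) ^ 2 := by
    rw [Finset.sum_congr rfl (fun g hg => hcen g (Finset.mem_filter.1 hg).2),
      Finset.sum_const, nsmul_eq_mul]
    congr 2
    rw [Nat.card_eq_fintype_card, Fintype.card_subtype]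
  rw [h0, h1, add_zero] at hsum
  have hnat : Nat.card (Subgroup.center L) * (charDegree (θ : L → ℂ)) ^ 2 = Nat.card L := by
    exact_mod_cast hsum
  have hidx := Subgroup.card_mul_index (Subgroup.center L)
  rw [← hidx] at hnat
  exact Nat.eq_of_mul_eq_mul_left Nat.card_pos hnat

end Cfsg.Agent.Lib.Helper15.IP
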