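import Mathlib
import Cfsg.Agent.Lib.Helper15.IP.Defs
import Cfsg.Agent.Lib.Helper15.IP.L01
import Cfsg.Agent.Lib.Helper15.IP.L04
import Cfsg.Agent.Lib.Helper15.IP.L07
import Cfsg.Agent.Lib.Helper15.IP.L08
import Cfsg.Agent.Lib.Helper2.DirectProduct
import Cfsg.Agent.Lib.Helper2.Linear

/-!
# S4463 farm (helper15), leaf L19

[L19] `η ∈ Irr(G)` with `η(1) ≥ 2`, vanishing off `Z`, `η(1)² = |G:Z|`. Then `Z` has no irreducible character
of degree `b`: such a `σ` would extend to `ξ ∈ Irr(G)` (L04); ... Argument: `η|_Z` has norm² `= |G:Z| = η(1)²`, so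
`η|_Z = η(1) λ`?? (not needed). Use instead: `ξ η̄`-trick — `⟨ξ η, ξ η⟩ = (1/|G|) Σ_{x∈Z} |ξ(x)|²|η(x)|²`. Simplest:
`σ` of degree `b` extends to `ξ`; `ξ η` is a character of `G` whose restriction to `Z` ... Suggested route:
`Ind_Z^G σ = ξ · Ind_Z^G 1`, and `η` is a constituent of `Ind_Z^G(λ)` for a constituent `λ` of `η|_Z`. By Frobenius,
`⟨ξ η̄ ... ⟩`. FALLBACK (what the assembly needs is only the statement): every constituent `χ` of `ξ η` has degree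
`≤ b`, and `[ξη, ξη] = (1/|G|) Σ_{x ∈ Z}|ξ(x)|²|η(x)|² ≤ (1/|G|)·η(1)²·Σ_{x∈Z}|σ(x)|² = η(1)²|Z|/|G| = 1`, so `ξη`
is irreducible of degree `b η(1) ≥ 2b > b`, contradiction. (Uses L07 for `|η(x)| ≤ η(1)`, L08 on `Z` for `σ`.)

Filled by helper13 along the FALLBACK route.
-/

set_option autoImplicit false

namespace Cfsg.Agent.Lib.Helper15.IP

open Cfsg
open scoped commutatorElement

universe u

variable {G : Type u} [Group G]

namespace L19

open scoped ComplexConjugate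

/-- the norm of a character, as a real number -/
theorem classInner_self_real {X : Type u} [Group X] [Fintype X] (ψ : X → ℂ) :
    classInner ψ ψ = (((Nat.card X : ℝ)⁻¹ * ∑ g : X, ‖ψ g‖ ^ 2 : ℝ) : ℂ) := by
  rw [Cfsg.Agent.Lib.Helper2.classInner_def]
  have h3 : ∀ g : X, ψ g * (starRingEnd ℂ) (ψ g) = ((‖ψ g‖ ^ 2 : ℝ) : ℂ) := by
    intro g
    rw [Complex.mul_conj, Complex.normSq_eq_norm_sq]
  simp only [h3]
  push_cast
  rfl

/-- a sum over the group of a function vanishing off a subgroup -/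
theorem sum_eq_sum_subgroup {X : Type u} [Group X] [Fintype X] (Z : Subgroup X) [Fintype ↥Z]
    (f : X → ℝ) (hf : ∀ x : X, x ∉ Z → f x = 0) : ∑ x : X, f x = ∑ z : ↥Z, f (z : X) := by
  classical
  have h1 : ∑ x : X, f x = ∑ x ∈ Finset.univ.filter (fun x : X => x ∈ Z), f x := by
    symm
    apply Finset.sum_subset (Finset.filter_subset _ _)
    intro x _ hx
    apply hf
    simpa using hx
  rw [h1]
  exact Finset.sum_subtype (Finset.univ.filter (fun x : X => x ∈ Z)) (by simp) f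

end L19

theorem degLE_pred_of_ramified [Finite G] {b : ℕ} (hG : DegLE G b) (Z : Subgroup G)
    (η : IrrCharacter G) (hη2 : 2 ≤ charDegree (η : G → ℂ))
    (hvan : ∀ x : G, x ∉ Z → (η : G → ℂ) x = 0)
    (hidx : (charDegree (η : G → ℂ)) ^ 2 = Z.index) : DegLE ↥Z (b - 1) := by
  classical
  have : Fintype G := Fintype.ofFinite G
  have : Fintype ↥Z := Fintype.ofFinite ↥Z
  intro σ
  have h1 := degLE_subgroup hG Z σ
  by_contra hcon
  have hσ : charDegree (σ : ↥Z → ℂ) = b := by omega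
  have hb1 : 1 ≤ b := by omega
  obtain ⟨ξ, hξ⟩ := exists_extension hG Z σ hσ
  set e := charDegree (η : G → ℂ) with he
  -- the product character
  have hψ : IsCharacter G ((ξ : G → ℂ) * (η : G → ℂ)) :=
    Cfsg.Agent.Lib.Helper2.isCharacter_mul
      (Cfsg.Agent.Lib.Helper2.IsIrrCharacter.isCharacter ξ.2)
      (Cfsg.Agent.Lib.Helper2.IsIrrCharacter.isCharacter η.2)
  obtain ⟨n, hn⟩ := Cfsg.Agent.Lib.Helper2.classInner_isCharacter_nat hψ hψ
  have hξ1 : (ξ : G → ℂ) 1 = (b : ℂ) := by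
    have h := hξ 1
    rw [Subgroup.coe_one] at h
    rw [h, Cfsg.Agent.Lib.Helper2.TwoDeg.apply_one_eq_charDegree σ, hσ]
  have hη1 : (η : G → ℂ) 1 = (e : ℂ) :=
    Cfsg.Agent.Lib.Helper2.TwoDeg.apply_one_eq_charDegree η
  have hψ1 : ((ξ : G → ℂ) * (η : G → ℂ)) 1 = ((b * e : ℕ) : ℂ) := by
    rw [Pi.mul_apply, hξ1, hη1]; push_cast; ring
  -- the norm as a real number
  have hreal := L19.classInner_self_real ((ξ : G → ℂ) * (η : G → ℂ))
  rw [hn] at hreal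
  have hreal' : (n : ℝ) = (Nat.card G : ℝ)⁻¹ * ∑ g : G, ‖((ξ : G → ℂ) * (η : G → ℂ)) g‖ ^ 2 := by
    have : ((n : ℝ) : ℂ) = (((Nat.card G : ℝ)⁻¹ *
        ∑ g : G, ‖((ξ : G → ℂ) * (η : G → ℂ)) g‖ ^ 2 : ℝ) : ℂ) := by
      rw [← hreal]; simp
    exact Complex.ofReal_injective this
  have hcardG : (0 : ℝ) < (Nat.card G : ℝ) := by exact_mod_cast Nat.card_pos
  -- upper bound of the sum
  have hsum_le : ∑ g : G, ‖((ξ : G → ℂ) * (η : G → ℂ)) g‖ ^ 2 ≤ (Nat.card G : ℝ) := by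
    have hvanψ : ∀ x : G, x ∉ Z → ‖((ξ : G → ℂ) * (η : G → ℂ)) x‖ ^ 2 = 0 := by
      intro x hx
      rw [Pi.mul_apply, hvan x hx]; simp
    rw [L19.sum_eq_sum_subgroup Z _ hvanψ]
    have hterm : ∀ z : ↥Z, ‖((ξ : G → ℂ) * (η : G → ℂ)) (z : G)‖ ^ 2
        ≤ (e : ℝ) ^ 2 * ‖(σ : ↥Z → ℂ) z‖ ^ 2 := by
      intro z
      rw [Pi.mul_apply, norm_mul, hξ z, mul_pow, mul_comm]
      have h7 := norm_le_charDegree η (z : G)
      have h8 : ‖(η : G → ℂ) (z : G)‖ ^ 2 ≤ (e : ℝ) ^ 2 :=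
        pow_le_pow_left₀ (norm_nonneg _) h7 2
      exact mul_le_mul_of_nonneg_right h8 (sq_nonneg _)
    calc ∑ z : ↥Z, ‖((ξ : G → ℂ) * (η : G → ℂ)) (z : G)‖ ^ 2
        ≤ ∑ z : ↥Z, (e : ℝ) ^ 2 * ‖(σ : ↥Z → ℂ) z‖ ^ 2 := Finset.sum_le_sum (fun z _ => hterm z)
      _ = (e : ℝ) ^ 2 * (Nat.card ↥Z : ℝ) := by
          rw [← Finset.mul_sum, sum_norm_sq_eq_card σ]
      _ = (Nat.card G : ℝ) := by
          have h9 : Z.index * Nat.card ↥Z = Nat.card G := Subgroup.index_mul_card Z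
          have h10 : ((e ^ 2 * Nat.card ↥Z : ℕ) : ℝ) = (Nat.card G : ℝ) := by
            rw [hidx, h9]
          rw [← h10]; push_cast; ring
  -- lower bound of the sum
  have hsum_pos : 0 < ∑ g : G, ‖((ξ : G → ℂ) * (η : G → ℂ)) g‖ ^ 2 := by
    have h11 : ‖((ξ : G → ℂ) * (η : G → ℂ)) 1‖ ^ 2
        ≤ ∑ g : G, ‖((ξ : G → ℂ) * (η : G → ℂ)) g‖ ^ 2 :=
      Finset.single_le_sum (f := fun g : G => ‖((ξ : G → ℂ) * (η : G → ℂ)) g‖ ^ 2)
        (fun g _ => sq_nonneg _) (Finset.mem_univ 1)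
    have h12 : 0 < ‖((ξ : G → ℂ) * (η : G → ℂ)) 1‖ ^ 2 := by
      rw [hψ1]
      have : (0 : ℝ) < ((b * e : ℕ) : ℝ) := by
        have : 0 < b * e := Nat.mul_pos hb1 (by omega)
        exact_mod_cast this
      have h13 : ‖(((b * e : ℕ) : ℂ))‖ = ((b * e : ℕ) : ℝ) := by
        rw [Complex.norm_natCast]
      rw [h13]; positivity
    linarith
  have hn1 : n = 1 := by
    have hle : (n : ℝ) ≤ 1 := by
      rw [hreal']
      rw [inv_mul_le_iff₀ hcardG]; linarith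
    have hpos : (0 : ℝ) < (n : ℝ) := by
      rw [hreal']; positivity
    have h14 : n ≤ 1 := by exact_mod_cast hle
    have h15 : 0 < n := by exact_mod_cast hpos
    omega
  rw [hn1] at hn
  have hirr : IsIrrCharacter G ((ξ : G → ℂ) * (η : G → ℂ)) :=
    Cfsg.Agent.Lib.Helper2.isIrrCharacter_of_classInner_self_eq_one hψ (by simpa using hn)
  have hdeg := hG ⟨_, hirr⟩
  have hcd : charDegree ((ξ : G → ℂ) * (η : G → ℂ)) = b * e := by
    unfold Cfsg.charDegree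
    rw [hψ1, Complex.natCast_re, Nat.floor_natCast]
  simp only at hdeg
  rw [hcd] at hdeg
  nlinarith

end Cfsg.Agent.Lib.Helper15.IP
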