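import Mathlib
import Cfsg.Agent.Lib.Helper15.IP.Defs
import Cfsg.Agent.Lib.Helper11.IndIrr

/-!
# S4463 farm (helper15), leaf L20

[L20] `L` nonabelian, `M = L'` abelian, and no `g ∉ M` centralizes a nontrivial element of `M`. Take a
nontrivial linear `λ ∈ Irr(M)` (`M ≠ 1`); its stabilizer in `L` is `M` (if `g` fixes `λ` then `g` fixes a nontrivial
element by Brauer's permutation lemma / or: `[M,g] ≤ ker λ`, and `m ↦ [m,g]` is injective on `M` for `g ∉ M` hence
onto, so `λ = 1`). So the orbit has size `|L:M|` and a `χ ∈ Irr(L)` over `λ` has `χ(1) ≥ |L:M|` (Clifford; library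
Helper11/Clifford2, Helper24/CliffordGeneral). Alternative: `Ind_M^L λ` is irreducible by Mackey/inner product
computation `[Ind λ, Ind λ] = Σ_{g ∈ L/M} [λ, λ^g] = 1`.
-/

set_option autoImplicit false

namespace Cfsg.Agent.Lib.Helper15.IP

open Cfsg
open scoped commutatorElement

universe u

variable {G : Type u} [Group G]

theorem frob_index_le {L : Type u} [Group L] [Finite L] {b : ℕ} (hL : DegLE L b)
    (hna : ¬ ∀ a b : L, a * b = b * a)
    (hab : ∀ a ∈ commutator L, ∀ b ∈ commutator L, a * b = b * a)
    (hfpf : ∀ g : L, g ∉ commutator L → ∀ x ∈ commutator L, x * g = g * x → x = 1) :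
    (commutator L).index ≤ b := by
  classical
  have : Fintype L := Fintype.ofFinite L
  -- `M = L'` is nontrivial
  have hMne : commutator L ≠ ⊥ := by
    intro h
    apply hna
    intro a b
    have h1 : ⁅a, b⁆ ∈ commutator L :=
      Subgroup.commutator_mem_commutator (Subgroup.mem_top a) (Subgroup.mem_top b)
    rw [h, Subgroup.mem_bot] at h1
    exact commutatorElement_eq_one_iff_mul_comm.mp h1
  -- `M` is solvable (abelian)
  have hsol : Group.IsSolvable ↥(commutator L) :=
    Group.isSolvable_of_comm (fun a b => Subtype.ext (hab a a.2 b b.2))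
  -- a nontrivial linear character of `M`
  have hbt : (⊥ : Subgroup ↥(commutator L)) ≠ ⊤ := by
    intro h
    apply hMne
    rw [Subgroup.eq_bot_iff_forall]
    intro x hx
    have h2 : (⟨x, hx⟩ : ↥(commutator L)) ∈ (⊥ : Subgroup ↥(commutator L)) := by
      rw [h]; exact Subgroup.mem_top _
    rw [Subgroup.mem_bot] at h2
    exact congrArg Subtype.val h2
  obtain ⟨φ, -, t, ht⟩ :=
    Cfsg.Agent.Lib.Helper11.exists_linear_trivialOn_of_solvable
      (⊥ : Subgroup ↥(commutator L)) hbt
  set θ : ↥(commutator L) → ℂ := fun x => ((φ x : ℂˣ) : ℂ) with hθdef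
  have hθ : IsIrrCharacter ↥(commutator L) θ :=
    Cfsg.Agent.Lib.Helper2.isIrrCharacter_of_monoidHom φ
  -- the stabilizer of `θ` is `M`
  have hstab : ∀ g : L, Cfsg.Agent.Lib.Helper11.conjFn (commutator L) g θ = θ ↔
      g ∈ commutator L := by
    intro g
    constructor
    · intro hg
      by_contra hgM
      -- the map `x ↦ g x g⁻¹ x⁻¹` on `M` is injective
      let f : ↥(commutator L) → ↥(commutator L) := fun x =>
        ⟨g * x * g⁻¹ * (x : L)⁻¹,
          (commutator L).mul_mem
            ((inferInstance : (commutator L).Normal).conj_mem x x.2 g)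
            ((commutator L).inv_mem x.2)⟩
      have hfinj : Function.Injective f := by
        intro x y hxy
        have h1 : g * x * g⁻¹ * (x : L)⁻¹ = g * y * g⁻¹ * (y : L)⁻¹ :=
          congrArg Subtype.val hxy
        have h2 : ((y : L)⁻¹ * x) * g = g * ((y : L)⁻¹ * x) := by
          have h3 : (x : L) * g⁻¹ * (x : L)⁻¹ = y * g⁻¹ * (y : L)⁻¹ := by
            have := congrArg (fun z => g⁻¹ * z) h1
            simpa [mul_assoc] using this
          have h4 : ((y : L)⁻¹ * x) * g⁻¹ = g⁻¹ * ((y : L)⁻¹ * x) := by
            have := congrArg (fun z => (y : L)⁻¹ * z * x) h3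
            simpa [mul_assoc] using this
          have h5 := congrArg (fun z => g * z * g) h4
          simp only [mul_assoc, inv_mul_cancel, mul_one] at h5
          simpa [mul_assoc] using h5.symm
        have h6 : (y : L)⁻¹ * x = 1 :=
          hfpf g hgM _ ((commutator L).mul_mem ((commutator L).inv_mem y.2) x.2) h2
        apply Subtype.ext
        have := congrArg (fun z => (y : L) * z) h6
        simpa using this
      have hfsurj : Function.Surjective f := Finite.surjective_of_injective hfinj
      -- so `φ` is trivial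
      apply ht
      obtain ⟨x, hx⟩ := hfsurj t
      have h7 : θ ⟨g * x * g⁻¹, (inferInstance : (commutator L).Normal).conj_mem x x.2 g⟩ = θ x := by
        have := congrFun hg x
        rwa [Cfsg.Agent.Lib.Helper11.conjFn_apply] at this
      have h8 : φ ⟨g * x * g⁻¹, (inferInstance : (commutator L).Normal).conj_mem x x.2 g⟩ = φ x := by
        apply Units.ext
        exact h7
      have h9 : t = ⟨g * x * g⁻¹, (inferInstance : (commutator L).Normal).conj_mem x x.2 g⟩ * x⁻¹ := by
        rw [← hx]
        apply Subtype.ext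
        rfl
      rw [h9, map_mul, h8, map_inv, mul_inv_cancel]
    · intro hg
      funext x
      rw [Cfsg.Agent.Lib.Helper11.conjFn_apply]
      have h9 : (⟨g * x * g⁻¹, (inferInstance : (commutator L).Normal).conj_mem x x.2 g⟩ :
          ↥(commutator L)) = ⟨g, hg⟩ * x * ⟨g, hg⟩⁻¹ := by
        apply Subtype.ext
        rfl
      show ((φ _ : ℂˣ) : ℂ) = ((φ x : ℂˣ) : ℂ)
      rw [h9, map_mul, map_mul, map_inv, mul_comm (φ ⟨g, hg⟩), mul_assoc, mul_inv_cancel, mul_one]
  -- the induced character has norm one
  have hcard := Cfsg.Agent.Lib.Helper11.card_mul_classInner_indFun_irr (commutator L) hθ hθ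
  have hfilt : (Finset.univ.filter (fun g : L =>
      Cfsg.Agent.Lib.Helper11.conjFn (commutator L) g θ = θ)).card = Nat.card ↥(commutator L) := by
    rw [Nat.card_eq_fintype_card, ← Finset.card_univ (α := ↥(commutator L))]
    symm
    refine Finset.card_bij (fun (x : ↥(commutator L)) _ => (x : L)) ?_ ?_ ?_
    · intro x _
      rw [Finset.mem_filter]
      exact ⟨Finset.mem_univ _, (hstab x).mpr x.2⟩
    · intro x _ y _ hxy
      exact Subtype.ext hxy
    · intro g hg
      rw [Finset.mem_filter] at hg
      exact ⟨⟨g, (hstab g).mp hg.2⟩, Finset.mem_univ _, rfl⟩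
  rw [hfilt] at hcard
  have hne : (Nat.card ↥(commutator L) : ℂ) ≠ 0 := by
    have : Nat.card ↥(commutator L) ≠ 0 := Nat.card_pos.ne'
    exact_mod_cast this
  have hnorm : classInner (indFun (commutator L) θ) (indFun (commutator L) θ) = 1 := by
    have := mul_left_cancel₀ hne (hcard.trans (mul_one _).symm)
    exact this
  have hchar : IsCharacter L (indFun (commutator L) θ) :=
    Cfsg.Agent.Lib.Helper2.indFun_isCharacter (commutator L) θ
      (Cfsg.Agent.Lib.Helper2.IsIrrCharacter.isCharacter hθ)
  have hirr : IsIrrCharacter L (indFun (commutator L) θ) :=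
    Cfsg.Agent.Lib.Helper2.isIrrCharacter_of_classInner_self_eq_one hchar hnorm
  have hdeg := hL ⟨indFun (commutator L) θ, hirr⟩
  have h1 : indFun (commutator L) θ 1 = ((commutator L).index : ℂ) := by
    rw [Cfsg.Agent.Lib.Helper2.indFun_apply_one]
    have : θ 1 = 1 := by
      show ((φ 1 : ℂˣ) : ℂ) = 1
      rw [map_one]; rfl
    rw [this, mul_one]
  have h2 : charDegree (indFun (commutator L) θ) = (commutator L).index := by
    unfold charDegree
    rw [h1]
    simp
  have h3 : charDegree (indFun (commutator L) θ) ≤ b := hdeg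
  omega

end Cfsg.Agent.Lib.Helper15.IP
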