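import Mathlib
import Cfsg.Agent.Lib.Helper15.IP.Defs
import Cfsg.Agent.Lib.Helper15.IP.L01
import Cfsg.Agent.Lib.Helper15.IP.L04
import Cfsg.Agent.Lib.Helper20.CD3Twelve4
import Cfsg.Agent.Lib.Helper25.CharBasic

/-!
# S4463 farm (helper15), leaf L21

[L21] `ψ ∈ Irr(N)` of degree `b`, `x ∈ N \ K`. Pick `g ∉ N`; `c = g x g⁻¹ x⁻¹ ∉ K` by `hfpf`; `c ∈ N` (normal).
`N/K` abelian (`hab`) so there is a linear `λ` of `N` with `K ≤ ker λ`, `λ(c) ≠ 1`. `ψ` and `ψλ` have degree `b`, so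
extend to `G` (L04), hence are `g`-invariant: `ψ(gxg⁻¹) = ψ(x)` and `ψ(gxg⁻¹)λ(gxg⁻¹) = ψ(x)λ(x)`, whence
`ψ(x)(λ(c) - 1) = 0` (as `λ(gxg⁻¹) = λ(c)λ(x)`), so `ψ(x) = 0`. Need: `ψλ ∈ Irr(N)` (product with a linear
character; library: Helper7/Gallagher or `mul_linear`), characters of abelian `N/K` separate elements.
-/

set_option autoImplicit false

namespace Cfsg.Agent.Lib.Helper15.IP

open Cfsg
open scoped commutatorElement

universe u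

variable {G : Type u} [Group G]

theorem frob_vanish [Finite G] {b : ℕ} (hG : DegLE G b) (K N : Subgroup G) [K.Normal] [N.Normal]
    (hKN : K ≤ N) (hNtop : N ≠ ⊤)
    (hab : ∀ x ∈ N, ∀ y ∈ N, x * y * x⁻¹ * y⁻¹ ∈ K)
    (hfpf : ∀ g : G, g ∉ N → ∀ x ∈ N, g * x * g⁻¹ * x⁻¹ ∈ K → x ∈ K)
    (ψ : IrrCharacter ↥N) (hψ : charDegree (ψ : ↥N → ℂ) = b) (x : ↥N) (hx : (x : G) ∉ K) :
    (ψ : ↥N → ℂ) x = 0 := by
  classical
  haveI : Fintype G := Fintype.ofFinite G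
  -- an element outside `N`
  obtain ⟨g, hg⟩ : ∃ g : G, g ∉ N := by
    by_contra h
    push_neg at h
    exact hNtop (by rw [eq_top_iff]; intro y _; exact h y)
  have hNn : N.Normal := inferInstance
  have hxg : g * (x : G) * g⁻¹ ∈ N := hNn.conj_mem x x.2 g
  set x' : ↥N := ⟨g * (x : G) * g⁻¹, hxg⟩ with hx'
  set c : ↥N := x' * x⁻¹ with hc
  have hcval : (c : G) = g * (x : G) * g⁻¹ * (x : G)⁻¹ := by
    rw [hc, hx']; simp
  have hcK : (c : G) ∉ K := by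
    intro h
    apply hx
    apply hfpf g hg x x.2
    rw [← hcval]; exact h
  have hab' : ∀ a ∈ N, ∀ b ∈ N, ⁅a, b⁆ ∈ K := by
    intro a ha b' hb
    rw [commutatorElement_def]
    exact hab a ha b' hb
  obtain ⟨lam, _, hlamc⟩ :=
    Cfsg.Agent.Lib.Helper20.CD3.exists_trivOn_ne_one N K hab' c hcK
  -- `ψ` and its twist by `lam` both have degree `b`, hence extend to `G`
  obtain ⟨ξ1, h1⟩ := exists_extension hG N ψ hψ
  let ψ2 : IrrCharacter ↥N :=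
    ⟨Cfsg.Agent.Lib.Helper20.CD3.tw N (ψ : ↥N → ℂ) lam,
      Cfsg.Agent.Lib.Helper20.CD3.tw_isIrrCharacter N ψ.2 lam⟩
  have hψ2 : charDegree (ψ2 : ↥N → ℂ) = b := by
    have : (ψ2 : ↥N → ℂ) 1 = (ψ : ↥N → ℂ) 1 :=
      Cfsg.Agent.Lib.Helper20.CD3.tw_apply_one N (ψ : ↥N → ℂ) lam
    rw [← hψ]
    unfold charDegree
    rw [this]
  obtain ⟨ξ2, h2⟩ := exists_extension hG N ψ2 hψ2
  have hcf1 := Cfsg.Agent.Lib.Helper25.isClassFunction_of_char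
    (Cfsg.Agent.Lib.Helper25.isCharacter_of_irr ξ1.2)
  have hcf2 := Cfsg.Agent.Lib.Helper25.isClassFunction_of_char
    (Cfsg.Agent.Lib.Helper25.isCharacter_of_irr ξ2.2)
  have e1 : (ψ : ↥N → ℂ) x' = (ψ : ↥N → ℂ) x := by
    rw [← h1 x', ← h1 x]
    exact hcf1 (x : G) g
  have e2 : (ψ : ↥N → ℂ) x' * ((lam x' : ℂˣ) : ℂ) = (ψ : ↥N → ℂ) x * ((lam x : ℂˣ) : ℂ) := by
    have h2' : ∀ y : ↥N, (ξ2 : G → ℂ) (y : G) = (ψ : ↥N → ℂ) y * ((lam y : ℂˣ) : ℂ) := fun y => h2 y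
    rw [← h2' x', ← h2' x]
    exact hcf2 (x : G) g
  have e3 : lam x' = lam c * lam x := by
    rw [← map_mul]
    congr 1
    rw [hc]; group
  rw [e1, e3, Units.val_mul] at e2
  have hne : ((lam c : ℂˣ) : ℂ) ≠ 1 := by
    intro h
    apply hlamc
    exact Units.ext h
  have hxu : ((lam x : ℂˣ) : ℂ) ≠ 0 := Units.ne_zero _
  have key : (ψ : ↥N → ℂ) x * ((lam x : ℂˣ) : ℂ) * (((lam c : ℂˣ) : ℂ) - 1) = 0 := by
    linear_combination e2
  rcases mul_eq_zero.1 key with h | h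
  · rcases mul_eq_zero.1 h with h' | h'
    · exact h'
    · exact absurd h' hxu
  · exact absurd (sub_eq_zero.1 h) hne

end Cfsg.Agent.Lib.Helper15.IP
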