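import Mathlib
import Cfsg.Agent.Lib.Helper15.IP.Defs
import Cfsg.Agent.Lib.Helper15.IP.L08
import Cfsg.Agent.Lib.Helper27.IPL22

/-!
# S4463 farm (helper15), leaf L22

[L22] `ψ ∈ Irr(N)` vanishing off `K ⊴ N`, `|N:K| = p^a`, `a > 0` ⇒ `p ∣ ψ(1)`. `[ψ|_K, ψ|_K] = |N:K|` (L08), and
`ψ|_K = e Σ_{i ≤ t} θ_i` with `e² t = |N:K| = p^a` and `e t ∣ ψ(1)`...: since `t ∣ |N:K|` is a `p`-power, `e` too,
`e t > 1` so `p ∣ e t ∣ ψ(1)` (`ψ(1) = e t θ(1)`). (Library: DegreeRatio.main as used in Helper20/CD3Step2.lean,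
Helper11/Clifford2, Helper24/CliffordGeneral.)
-/

set_option autoImplicit false

namespace Cfsg.Agent.Lib.Helper15.IP

open Cfsg
open scoped commutatorElement

universe u

variable {G : Type u} [Group G]

theorem prime_dvd_of_vanish [Finite G] (K N : Subgroup G) [K.Normal] (hKN : K ≤ N) {p a : ℕ}
    (hp : p.Prime) (hidx : K.relIndex N = p ^ a) (ha : 0 < a) (ψ : IrrCharacter ↥N)
    (hvan : ∀ x : ↥N, (x : G) ∉ K → (ψ : ↥N → ℂ) x = 0) : p ∣ charDegree (ψ : ↥N → ℂ) := by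
  exact Cfsg.Agent.Lib.Helper27.IPL22.prime_dvd_of_vanish K N hKN hp hidx ha ψ hvan

end Cfsg.Agent.Lib.Helper15.IP
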