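import Mathlib
import Cfsg.Agent.Lib.Helper15.IP.Defs
import Cfsg.Agent.Lib.Helper15.IP.L01
import Cfsg.Agent.Lib.Helper15.IP.L04
import Cfsg.Agent.Lib.Helper15.IP.L08
import Cfsg.Agent.Lib.Helper14.DegGraph

/-!
# S4463 farm (helper15), leaf L23

[L23] `N1 < N`, every degree-`b` irreducible of `N` vanishes off `N1` ⇒ `N1` has no irreducible of degree `b`:
such `σ` extends to `ψ ∈ Irr(N)` of degree `b` (L04 applied inside `N`, with `DegLE N b` from L01), which vanishes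
off `N1`, so `|N| = Σ_N |ψ|² = Σ_{N1}|σ|² = |N1|` (L08 twice), contradiction with `N1 ≠ N`. (Work with
`N1.subgroupOf N`.)
-/

set_option autoImplicit false

namespace Cfsg.Agent.Lib.Helper15.IP

open Cfsg
open scoped commutatorElement

universe u

variable {G : Type u} [Group G]

namespace L23

/-- the sum of `|ψ|²` over `N` equals the sum of `|σ|²` over `N1` when `ψ` vanishes off `N1` and agrees
with `σ` on `N1`. -/
theorem sum_eq_of_vanish (N N1 : Subgroup G) (h1 : N1 ≤ N) [Fintype ↥N] [Fintype ↥N1]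
    (ψ : ↥N → ℂ) (σ : ↥N1 → ℂ)
    (hvan : ∀ x : ↥N, (x : G) ∉ N1 → ψ x = 0)
    (hext : ∀ y : ↥N1, ψ (Subgroup.inclusion h1 y) = σ y) :
    ∑ x : ↥N, ‖ψ x‖ ^ 2 = ∑ y : ↥N1, ‖σ y‖ ^ 2 := by
  classical
  have hinj : Function.Injective (Subgroup.inclusion h1) := Subgroup.inclusion_injective h1
  have hsub : (Finset.univ.image (Subgroup.inclusion h1) : Finset ↥N) ⊆ Finset.univ :=
    Finset.subset_univ _
  rw [← Finset.sum_subset hsub]
  · rw [Finset.sum_image (fun a _ b _ hab => hinj hab)]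
    refine Finset.sum_congr rfl (fun y _ => ?_)
    rw [hext y]
  · intro x _ hx
    have hx1 : (x : G) ∉ N1 := by
      intro hmem
      apply hx
      rw [Finset.mem_image]
      exact ⟨⟨(x : G), hmem⟩, Finset.mem_univ _, Subtype.ext rfl⟩
    rw [hvan x hx1]
    simp

end L23

theorem degLE_pred_of_vanish [Finite G] {b : ℕ} (hG : DegLE G b) (N N1 : Subgroup G)
    (h1 : N1 ≤ N) (hne : N1 ≠ N)
    (hvan : ∀ ψ : IrrCharacter ↥N, charDegree (ψ : ↥N → ℂ) = b →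
      ∀ x : ↥N, (x : G) ∉ N1 → (ψ : ↥N → ℂ) x = 0) : DegLE ↥N1 (b - 1) := by
  classical
  intro σ
  have hσle : charDegree (σ : ↥N1 → ℂ) ≤ b := degLE_subgroup hG N1 σ
  by_contra hcon
  have hσb : charDegree (σ : ↥N1 → ℂ) = b := by omega
  exfalso
  apply hne
  -- transport `σ` to `N1.subgroupOf N`
  let e : ↥(N1.subgroupOf N) ≃* ↥N1 := Subgroup.subgroupOfEquivOfLe h1
  have hσ' : IsIrrCharacter ↥(N1.subgroupOf N) (fun x => (σ : ↥N1 → ℂ) (e x)) :=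
    Cfsg.Agent.Lib.Helper14.isIrrCharacter_comp_surj e.toMonoidHom e.surjective σ.2
  let σ' : IrrCharacter ↥(N1.subgroupOf N) := ⟨fun x => (σ : ↥N1 → ℂ) (e x), hσ'⟩
  have hσ'b : charDegree (σ' : ↥(N1.subgroupOf N) → ℂ) = b := by
    rw [← hσb]
    show ⌊((σ : ↥N1 → ℂ) (e 1)).re⌋₊ = ⌊((σ : ↥N1 → ℂ) 1).re⌋₊
    rw [map_one]
  have hN : DegLE ↥N b := degLE_subgroup hG N
  obtain ⟨ψ, hψ⟩ := exists_extension hN (N1.subgroupOf N) σ' hσ'b
  have hψb : charDegree (ψ : ↥N → ℂ) = b := by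
    rw [← hσ'b]
    have := hψ 1
    show ⌊((ψ : ↥N → ℂ) 1).re⌋₊ = ⌊((σ' : ↥(N1.subgroupOf N) → ℂ) 1).re⌋₊
    rw [← this]
    rfl
  have hv := hvan ψ hψb
  have : Fintype ↥N := Fintype.ofFinite _
  have : Fintype ↥N1 := Fintype.ofFinite _
  have hext : ∀ y : ↥N1, (ψ : ↥N → ℂ) (Subgroup.inclusion h1 y) = (σ : ↥N1 → ℂ) y := by
    intro y
    have hmem : Subgroup.inclusion h1 y ∈ N1.subgroupOf N := by
      rw [Subgroup.mem_subgroupOf]
      exact y.2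
    have h2 := hψ ⟨Subgroup.inclusion h1 y, hmem⟩
    rw [h2]
    show (σ : ↥N1 → ℂ) (e ⟨Subgroup.inclusion h1 y, hmem⟩) = (σ : ↥N1 → ℂ) y
    congr 1
  have hsum := L23.sum_eq_of_vanish N N1 h1 (ψ : ↥N → ℂ) (σ : ↥N1 → ℂ) hv hext
  rw [sum_norm_sq_eq_card ψ, sum_norm_sq_eq_card σ] at hsum
  have hcard : Nat.card ↥N = Nat.card ↥N1 := by exact_mod_cast hsum
  exact Subgroup.eq_of_le_of_card_ge h1 (le_of_eq hcard)

end Cfsg.Agent.Lib.Helper15.IP
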