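import Mathlib
import Cfsg.Agent.Lib.Helper15.IP.Defs

/-!
# S4463 farm (helper15), leaf L24

[L24] a nontrivial `p`-subgroup `M` has a subgroup of index `p` (Sylow/p-group theory in Mathlib:
`IsPGroup`, `Sylow.exists_subgroup_card_pow_prime`, or maximal subgroups of p-groups).
-/

set_option autoImplicit false

namespace Cfsg.Agent.Lib.Helper15.IP

open Cfsg
open scoped commutatorElement

universe u

variable {G : Type u} [Group G]

theorem exists_relIndex_prime {L : Type u} [Group L] [Finite L] {p : ℕ} (hp : p.Prime)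
    (M : Subgroup L) (hM : IsPGroup p ↥M) (hM1 : M ≠ ⊥) :
    ∃ M1 : Subgroup L, M1 ≤ M ∧ M1.relIndex M = p := by
  have : Fact p.Prime := ⟨hp⟩
  obtain ⟨k, hk⟩ := IsPGroup.iff_card.mp hM
  have hk1 : k ≠ 0 := by
    intro h0
    rw [h0, pow_zero] at hk
    exact hM1 ((Subgroup.card_eq_one).mp hk)
  obtain ⟨m, rfl⟩ := Nat.exists_eq_succ_of_ne_zero hk1
  have hdvd : p ^ m ∣ Nat.card ↥M := by
    rw [hk]; exact pow_dvd_pow p (Nat.le_succ m)
  obtain ⟨K, hK⟩ := Sylow.exists_subgroup_card_pow_prime p hdvd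
  refine ⟨K.map M.subtype, Subgroup.map_subtype_le K, ?_⟩
  have hrel : (K.map M.subtype).relIndex M = K.index := by
    rw [Subgroup.relIndex]
    congr 1
    ext x
    simp [Subgroup.mem_subgroupOf]
  rw [hrel]
  have hmul := K.card_mul_index
  rw [hK, hk, pow_succ] at hmul
  have hpos : 0 < p ^ m := pow_pos hp.pos m
  exact Nat.eq_of_mul_eq_mul_left hpos hmul

end Cfsg.Agent.Lib.Helper15.IP
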