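import Mathlib
import Cfsg.Agent.Lib.Helper15.IP.Defs

/-!
# S4463 farm (helper15), leaf L25

[L25] an abelian `A ≤ J` of index `≤ (c!)²` in `J` maps to `A.map J.subtype` of index `|X:J||J:A|` in `X`.
-/

set_option autoImplicit false

namespace Cfsg.Agent.Lib.Helper15.IP

open Cfsg
open scoped commutatorElement

universe u

variable {G : Type u} [Group G]

theorem hasAb_of_subgroup {X : Type u} [Group X] [Finite X] (J : Subgroup X) {c n : ℕ}
    (hJ : HasAb ↥J c) (h : J.index * (Nat.factorial c) ^ 2 ≤ (Nat.factorial n) ^ 2) :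
    HasAb X n := by
  obtain ⟨A, hA, hidx⟩ := hJ
  refine ⟨A.map J.subtype, ?_, ?_⟩
  · rintro x ⟨a, ha, rfl⟩ y ⟨b, hb, rfl⟩
    have := hA a ha b hb
    have h2 := congrArg J.subtype this
    simpa using h2
  · rw [Subgroup.index_map_subtype]
    calc A.index * J.index ≤ (Nat.factorial c) ^ 2 * J.index := Nat.mul_le_mul_right _ hidx
      _ = J.index * (Nat.factorial c) ^ 2 := Nat.mul_comm _ _
      _ ≤ (Nat.factorial n) ^ 2 := h

end Cfsg.Agent.Lib.Helper15.IP
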