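import Mathlib
import Cfsg.Agent.Lib.Helper15.IP.Defs
import Cfsg.Agent.Lib.Helper25.Linear

/-!
# S4463 farm (helper15), leaf L26

[L26] the trivial character has degree 1 (library: Helper25 `irrOne`).
-/

set_option autoImplicit false

namespace Cfsg.Agent.Lib.Helper15.IP

open Cfsg
open scoped commutatorElement

universe u

variable {G : Type u} [Group G]

theorem one_le_of_degLE {X : Type u} [Group X] [Finite X] {b : ℕ} (h : DegLE X b) : 1 ≤ b := by
  have h1 := h (Cfsg.Agent.Lib.Helper25.irrOne X)
  have h2 : charDegree ((Cfsg.Agent.Lib.Helper25.irrOne X : IrrCharacter X) : X → ℂ) = 1 := by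
    show ⌊((1 : ℂ)).re⌋₊ = 1
    simp
  omega

end Cfsg.Agent.Lib.Helper15.IP
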