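import Mathlib
import Cfsg.Agent.Lib.Helper15.IP.Defs

/-!
# S4463 farm (helper15), leaf L27

[L27] translation to the quotient: `G/K` is nonabelian as `G' ≰ K`; a nontrivial normal `N̄` of `G/K` has
preimage `N` normal with `K < N`, so `G' ≤ N`, and `(G/K)' = image of G'` (`Subgroup.map_commutator` /
`commutator_def`, `Subgroup.map_le_iff_le_comap`).
-/

set_option autoImplicit false

namespace Cfsg.Agent.Lib.Helper15.IP

open Cfsg
open scoped commutatorElement

universe u

variable {G : Type u} [Group G]

theorem quot_facts [Finite G] (K : Subgroup G) [K.Normal] (hK : ¬ commutator G ≤ K)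
    (hmax : ∀ N : Subgroup G, N.Normal → K < N → commutator G ≤ N) :
    (¬ ∀ a b : G ⧸ K, a * b = b * a) ∧
    ∀ N : Subgroup (G ⧸ K), N.Normal → N ≠ ⊥ → commutator (G ⧸ K) ≤ N := by
  constructor
  · intro hab
    apply hK
    rw [commutator_def, Subgroup.commutator_le]
    intro a _ b _
    have h1 : ((⁅a, b⁆ : G) : G ⧸ K) = 1 := by
      have : ((⁅a, b⁆ : G) : G ⧸ K) = ⁅(a : G ⧸ K), (b : G ⧸ K)⁆ := by
        simp [commutatorElement_def]
      rw [this, commutatorElement_eq_one_iff_mul_comm]
      exact hab _ _
    exact (QuotientGroup.eq_one_iff _).mp h1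
  · intro N hN hNbot
    have := hN
    have hKN : K ≤ N.comap (QuotientGroup.mk' K) := by
      intro x hx
      rw [Subgroup.mem_comap]
      have : (QuotientGroup.mk' K) x = 1 := (QuotientGroup.eq_one_iff x).mpr hx
      rw [this]
      exact N.one_mem
    have hne : K ≠ N.comap (QuotientGroup.mk' K) := by
      intro heq
      apply hNbot
      rw [eq_bot_iff]
      intro y hy
      obtain ⟨x, rfl⟩ := QuotientGroup.mk'_surjective K y
      have hx : x ∈ N.comap (QuotientGroup.mk' K) := hy
      rw [← heq] at hx
      rw [Subgroup.mem_bot]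
      exact (QuotientGroup.eq_one_iff x).mpr hx
    have hlt : K < N.comap (QuotientGroup.mk' K) := lt_of_le_of_ne hKN hne
    have hcomm := hmax (N.comap (QuotientGroup.mk' K)) inferInstance hlt
    rw [commutator_def, Subgroup.commutator_le]
    intro a _ b _
    obtain ⟨x, rfl⟩ := QuotientGroup.mk'_surjective K a
    obtain ⟨y, rfl⟩ := QuotientGroup.mk'_surjective K b
    have hxy : ⁅x, y⁆ ∈ N.comap (QuotientGroup.mk' K) := by
      apply hcomm
      rw [commutator_def]
      exact Subgroup.commutator_mem_commutator (Subgroup.mem_top _) (Subgroup.mem_top _)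
    rw [Subgroup.mem_comap, map_commutatorElement] at hxy
    exact hxy

end Cfsg.Agent.Lib.Helper15.IP
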