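import Mathlib
import Cfsg.Agent.Lib.Helper15.IP.Defs
import Cfsg.Agent.Lib.Helper20.CD3Group
import Cfsg.Agent.Lib.Helper15.IP.L01
import Cfsg.Agent.Lib.Helper15.IP.L02
import Cfsg.Agent.Lib.Helper15.IP.L03
import Cfsg.Agent.Lib.Helper15.IP.L04
import Cfsg.Agent.Lib.Helper15.IP.L05
import Cfsg.Agent.Lib.Helper15.IP.L06
import Cfsg.Agent.Lib.Helper15.IP.L07
import Cfsg.Agent.Lib.Helper15.IP.L08
import Cfsg.Agent.Lib.Helper15.IP.L09
import Cfsg.Agent.Lib.Helper15.IP.L10
import Cfsg.Agent.Lib.Helper15.IP.L11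
import Cfsg.Agent.Lib.Helper15.IP.L12
import Cfsg.Agent.Lib.Helper15.IP.L13
import Cfsg.Agent.Lib.Helper15.IP.L14
import Cfsg.Agent.Lib.Helper15.IP.L15
import Cfsg.Agent.Lib.Helper15.IP.L16
import Cfsg.Agent.Lib.Helper15.IP.L17
import Cfsg.Agent.Lib.Helper15.IP.L18
import Cfsg.Agent.Lib.Helper15.IP.L19
import Cfsg.Agent.Lib.Helper15.IP.L20
import Cfsg.Agent.Lib.Helper15.IP.L21
import Cfsg.Agent.Lib.Helper15.IP.L22
import Cfsg.Agent.Lib.Helper15.IP.L23
import Cfsg.Agent.Lib.Helper15.IP.L24
import Cfsg.Agent.Lib.Helper15.IP.L25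
import Cfsg.Agent.Lib.Helper15.IP.L26
import Cfsg.Agent.Lib.Helper15.IP.L27

/-!
# S4463 (helper15): Isaacs-Passman, assembly of the leaves L01-L27
-/

set_option autoImplicit false
set_option linter.style.haveILetI false

namespace Cfsg.Agent.Lib.Helper15.IP

open Cfsg
open scoped commutatorElement

universe u

variable {G : Type u} [Group G]

/-! ## assembly -/

theorem red_of_pred [Finite G] {b : ℕ} (hb : 1 ≤ b) (J : Subgroup G) (hJ : J ≠ ⊤)
    (hdeg : DegLE ↥J (b - 1)) (hidx : J.index ≤ b ^ 2) : Red G b := by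
  refine ⟨J, b - 1, hJ, hdeg, ?_⟩
  have hfac : Nat.factorial b = b * Nat.factorial (b - 1) := by
    obtain ⟨k, rfl⟩ : ∃ k, b = k + 1 := ⟨b - 1, by omega⟩
    simp [Nat.factorial_succ]
  rw [hfac, mul_pow]
  exact Nat.mul_le_mul_right _ hidx

theorem comap_normalCore_le [Finite G] (K : Subgroup G) [K.Normal] (C : Subgroup (G ⧸ K))
    (hC : C.normalCore = ⊥) : (C.comap (QuotientGroup.mk' K)).normalCore ≤ K := by
  set π := QuotientGroup.mk' K with hπ
  have hmapn : ((C.comap π).normalCore.map π).Normal :=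
    Subgroup.Normal.map inferInstance π (QuotientGroup.mk'_surjective K)
  have hle : (C.comap π).normalCore.map π ≤ C := by
    rw [Subgroup.map_le_iff_le_comap]
    exact Subgroup.normalCore_le _
  have h2 := Subgroup.normal_le_normalCore.mpr hle
  rw [hC] at h2
  intro x hx
  have hx' : π x ∈ (C.comap π).normalCore.map π := Subgroup.mem_map_of_mem π hx
  have h3 := h2 hx'
  rw [Subgroup.mem_bot] at h3
  exact (QuotientGroup.eq_one_iff x).mp h3

theorem not_comm_of_top [Finite G] (K : Subgroup G) [K.Normal]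
    (hna : ¬ ∀ a b : G ⧸ K, a * b = b * a) : K ≠ ⊤ := by
  intro h
  apply hna
  intro a b
  induction a using QuotientGroup.induction_on with
  | H g =>
    induction b using QuotientGroup.induction_on with
    | H k =>
      have hg : (g : G ⧸ K) = 1 := (QuotientGroup.eq_one_iff g).mpr (h ▸ Subgroup.mem_top g)
      have hk : (k : G ⧸ K) = 1 := (QuotientGroup.eq_one_iff k).mpr (h ▸ Subgroup.mem_top k)
      rw [hg, hk]

theorem card_comap [Finite G] (K : Subgroup G) [K.Normal] (C : Subgroup (G ⧸ K)) :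
    Nat.card ↥(C.comap (QuotientGroup.mk' K)) = Nat.card ↥K * Nat.card ↥C := by
  set J := C.comap (QuotientGroup.mk' K) with hJ
  have hJidx : J.index = C.index :=
    Subgroup.index_comap_of_surjective C (QuotientGroup.mk'_surjective K)
  have h1 := J.card_mul_index
  have h2 := K.card_mul_index
  have h3 := C.card_mul_index
  rw [Subgroup.index_eq_card K] at h2
  have hpos : 0 < C.index := Nat.pos_of_ne_zero Subgroup.index_ne_zero_of_finite
  rw [hJidx] at h1
  have : Nat.card ↥J * C.index = Nat.card ↥K * Nat.card ↥C * C.index := by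
    rw [h1, mul_assoc, h3, h2]
  exact Nat.eq_of_mul_eq_mul_right hpos this

theorem case_NS [Finite G] {b : ℕ} (hb : 1 ≤ b) (hG : DegLE G b) (K : Subgroup G) [K.Normal]
    (hna : ¬ ∀ a b : G ⧸ K, a * b = b * a)
    (hmin : ∀ N : Subgroup (G ⧸ K), N.Normal → N ≠ ⊥ → commutator (G ⧸ K) ≤ N)
    (hnab : ¬ ∀ a ∈ commutator (G ⧸ K), ∀ b ∈ commutator (G ⧸ K), a * b = b * a) :
    Red G b := by
  have hL : DegLE (G ⧸ K) b := degLE_quotient hG K
  have hKtop : K ≠ ⊤ := not_comm_of_top K hna
  by_cases hb5 : 5 ≤ b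
  · by_cases hbig : b ^ 4 < Nat.card (G ⧸ K)
    · obtain ⟨x, hx1, hxidx⟩ := exists_small_class hL hbig
      set C : Subgroup (G ⧸ K) := Subgroup.centralizer ({x} : Set (G ⧸ K)) with hC
      have hcore : C.normalCore = ⊥ := centralizer_normalCore_eq_bot hmin hnab x hx1
      set J : Subgroup G := C.comap (QuotientGroup.mk' K) with hJ
      have hKJ : K ≤ J := by
        intro k hk
        rw [hJ, Subgroup.mem_comap]
        have : (QuotientGroup.mk' K) k = 1 := (QuotientGroup.eq_one_iff k).mpr hk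
        rw [this]
        exact C.one_mem
      have hJidx : J.index = C.index :=
        Subgroup.index_comap_of_surjective C (QuotientGroup.mk'_surjective K)
      have hJcore : J.normalCore ≤ K := comap_normalCore_le K C hcore
      have hcardJ : Nat.card ↥J = Nat.card ↥K * Nat.card ↥C := card_comap K C
      have hCcard : b ^ 2 < Nat.card ↥C := by
        have h3 := C.card_mul_index
        by_contra hle
        have hle' : Nat.card ↥C ≤ b ^ 2 := by omega
        have : Nat.card ↥C * C.index ≤ b ^ 2 * b ^ 2 := Nat.mul_le_mul hle' hxidx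
        rw [h3] at this
        have h4 : b ^ 2 * b ^ 2 = b ^ 4 := by ring
        omega
      have hKpos : 0 < Nat.card ↥K := Nat.card_pos
      have hbig' : b ^ 2 * Nat.card ↥K < Nat.card ↥J := by
        rw [hcardJ, mul_comm]
        exact Nat.mul_lt_mul_of_pos_left hCcard hKpos
      have hdeg : DegLE ↥J (b - 1) := degLE_pred_of_core hG J K hKJ hJcore hbig'
      have hJtop : J ≠ ⊤ := by
        intro h
        apply hKtop
        rw [eq_top_iff]
        have h5 : (⊤ : Subgroup G).normalCore ≤ K := h ▸ hJcore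
        intro g _
        apply h5
        rw [Subgroup.normalCore_eq_self]
        exact Subgroup.mem_top g
      exact red_of_pred hb J hJtop hdeg (hJidx ▸ hxidx)
    · have hK : DegLE ↥K (b / 2) := degLE_half hG K hna
      refine ⟨K, b / 2, hKtop, hK, ?_⟩
      have h1 : K.index ≤ b ^ 4 := by
        rw [Subgroup.index_eq_card K]
        omega
      calc K.index * (Nat.factorial (b / 2)) ^ 2 ≤ b ^ 4 * (Nat.factorial (b / 2)) ^ 2 :=
            Nat.mul_le_mul_right _ h1
        _ ≤ (Nat.factorial b) ^ 2 := arith_five hb5 le_rfl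
  · exfalso
    have hL4 : DegLE (G ⧸ K) 4 := fun χ => (hL χ).trans (by omega)
    have hsol := solvable_of_degLE_four _ (G ⧸ K) rfl hL4
    exact hnab (comm_abelian_of_solvable hsol hmin)

theorem case_P [Finite G] {b : ℕ} (hb : 1 ≤ b) (hG : DegLE G b) (K : Subgroup G) [K.Normal]
    (hna : ¬ ∀ a b : G ⧸ K, a * b = b * a)
    (hmin : ∀ N : Subgroup (G ⧸ K), N.Normal → N ≠ ⊥ → commutator (G ⧸ K) ≤ N)
    {p : ℕ} (hp : p.Prime) (hL : IsPGroup p (G ⧸ K)) : Red G b := by
  obtain ⟨θ, hθ2, hθvan, hθidx⟩ := exists_ramified hp hL hna hmin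
  obtain ⟨η, hη⟩ := exists_inflation' K θ
  have hdeg : charDegree (η : G → ℂ) = charDegree (θ : G ⧸ K → ℂ) := by
    unfold charDegree
    rw [hη 1]
    rfl
  set Z : Subgroup G := (Subgroup.center (G ⧸ K)).comap (QuotientGroup.mk' K) with hZ
  have hZidx : Z.index = (Subgroup.center (G ⧸ K)).index :=
    Subgroup.index_comap_of_surjective _ (QuotientGroup.mk'_surjective K)
  have hvan : ∀ x : G, x ∉ Z → (η : G → ℂ) x = 0 := by
    intro x hx
    rw [hη x]
    apply hθvan
    intro hmem
    exact hx (Subgroup.mem_comap.mpr hmem)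
  have hidx : (charDegree (η : G → ℂ)) ^ 2 = Z.index := by rw [hdeg, hθidx, hZidx]
  have hη2 : 2 ≤ charDegree (η : G → ℂ) := by rw [hdeg]; exact hθ2
  have hpred := degLE_pred_of_ramified hG Z η hη2 hvan hidx
  have hfb : charDegree (η : G → ℂ) ≤ b := hG η
  have hZle : Z.index ≤ b ^ 2 := by
    rw [← hidx]
    exact Nat.pow_le_pow_left hfb 2
  have hZtop : Z ≠ ⊤ := by
    intro h
    rw [h, Subgroup.index_top] at hidx
    nlinarith
  exact red_of_pred hb Z hZtop hpred hZle

theorem case_F [Finite G] {b : ℕ} (hb : 1 ≤ b) (hG : DegLE G b) (K : Subgroup G) [K.Normal]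
    (hna : ¬ ∀ a b : G ⧸ K, a * b = b * a)
    (hab : ∀ a ∈ commutator (G ⧸ K), ∀ b ∈ commutator (G ⧸ K), a * b = b * a)
    {p : ℕ} (hp : p.Prime) (hM : IsPGroup p ↥(commutator (G ⧸ K)))
    (hfpf : ∀ g : G ⧸ K, g ∉ commutator (G ⧸ K) → ∀ x ∈ commutator (G ⧸ K),
      x * g = g * x → x = 1) : Red G b := by
  set M : Subgroup (G ⧸ K) := commutator (G ⧸ K) with hMdef
  have hMn : M.Normal := by rw [hMdef]; infer_instance
  have hL := degLE_quotient hG K
  have hf : M.index ≤ b := frob_index_le hL hna hab hfpf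
  set π := QuotientGroup.mk' K with hπ
  have hπs : Function.Surjective π := QuotientGroup.mk'_surjective K
  set N : Subgroup G := M.comap π with hN
  haveI hNn : N.Normal := hMn.comap π
  have hNidx : N.index = M.index := Subgroup.index_comap_of_surjective M hπs
  have hker : ∀ k ∈ K, π k = 1 := fun k hk => (QuotientGroup.eq_one_iff k).mpr hk
  have hKN : K ≤ N := by
    intro k hk
    rw [hN, Subgroup.mem_comap, hker k hk]
    exact M.one_mem
  have hMtop : M ≠ ⊤ := by
    intro h
    apply hna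
    intro a c
    exact hab a (h ▸ Subgroup.mem_top a) c (h ▸ Subgroup.mem_top c)
  have hMbot : M ≠ ⊥ := by
    intro h
    apply hna
    intro a c
    have : ⁅a, c⁆ ∈ M :=
      Subgroup.commutator_mem_commutator (Subgroup.mem_top a) (Subgroup.mem_top c)
    rw [h, Subgroup.mem_bot] at this
    exact commutatorElement_eq_one_iff_mul_comm.mp this
  have hNtop : N ≠ ⊤ := by
    intro h
    apply hMtop
    rw [eq_top_iff]
    intro y _
    obtain ⟨g, rfl⟩ := hπs y
    have : g ∈ N := h ▸ Subgroup.mem_top g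
    exact this
  have hbb : b ≤ b ^ 2 := by nlinarith
  by_cases hdeg : DegLE ↥N (b - 1)
  · exact red_of_pred hb N hNtop hdeg (hNidx ▸ hf.trans hbb)
  · unfold DegLE at hdeg
    push Not at hdeg
    obtain ⟨ψ0, hψ0⟩ := hdeg
    have hψ0b : charDegree (ψ0 : ↥N → ℂ) = b :=
      le_antisymm (degLE_subgroup hG N ψ0) (by omega)
    have habN : ∀ x ∈ N, ∀ y ∈ N, x * y * x⁻¹ * y⁻¹ ∈ K := by
      intro x hx y hy
      rw [← QuotientGroup.eq_one_iff]
      have hc := hab (π x) hx (π y) hy
      change π (x * y * x⁻¹ * y⁻¹) = 1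
      rw [map_mul, map_mul, map_mul, map_inv, map_inv, hc]
      group
    have hfpfN : ∀ g : G, g ∉ N → ∀ x ∈ N, g * x * g⁻¹ * x⁻¹ ∈ K → x ∈ K := by
      intro g hg x hx hc
      rw [← QuotientGroup.eq_one_iff] at hc ⊢
      change π (g * x * g⁻¹ * x⁻¹) = 1 at hc
      change π x = 1
      rw [map_mul, map_mul, map_mul, map_inv, map_inv] at hc
      apply hfpf (π g) hg (π x) hx
      have h2 : π g * π x * (π g)⁻¹ = π x := by
        rw [mul_inv_eq_one] at hc
        exact hc
      exact (mul_inv_eq_iff_eq_mul.mp h2).symm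
    have hvan : ∀ ψ : IrrCharacter ↥N, charDegree (ψ : ↥N → ℂ) = b →
        ∀ x : ↥N, (x : G) ∉ K → (ψ : ↥N → ℂ) x = 0 :=
      fun ψ hψ x hx => frob_vanish hG K N hKN hNtop habN hfpfN ψ hψ x hx
    haveI : Fact p.Prime := ⟨hp⟩
    obtain ⟨a, ha⟩ := IsPGroup.iff_card.mp hM
    have hrel : K.relIndex N = p ^ a := by
      have h1 := Subgroup.relIndex_mul_index hKN
      rw [Subgroup.index_eq_card K, hNidx] at h1
      have h3 := M.card_mul_index
      rw [ha] at h3
      have hpos : 0 < M.index := Nat.pos_of_ne_zero Subgroup.index_ne_zero_of_finite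
      have : K.relIndex N * M.index = p ^ a * M.index := by rw [h1, h3]
      exact Nat.eq_of_mul_eq_mul_right hpos this
    have ha0 : 0 < a := by
      rcases Nat.eq_zero_or_pos a with h0 | h0
      · exfalso
        apply hMbot
        rw [h0, pow_zero] at ha
        exact Subgroup.card_eq_one.mp ha
      · exact h0
    have hpb : p ∣ b := by
      have := prime_dvd_of_vanish K N hKN hp hrel ha0 ψ0 (hvan ψ0 hψ0b)
      rwa [hψ0b] at this
    have hpleb : p ≤ b := Nat.le_of_dvd hb hpb
    obtain ⟨M1, hM1le, hM1rel⟩ := exists_relIndex_prime hp M hM hMbot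
    set N1 : Subgroup G := M1.comap π with hN1
    have hN1N : N1 ≤ N := Subgroup.comap_mono hM1le
    have hKN1 : K ≤ N1 := by
      intro k hk
      rw [hN1, Subgroup.mem_comap, hker k hk]
      exact M1.one_mem
    have hN1idx : N1.index = M1.index := Subgroup.index_comap_of_surjective M1 hπs
    have hM1idx : M1.index = p * M.index := by
      rw [← hM1rel]
      exact (Subgroup.relIndex_mul_index hM1le).symm
    have hN1ne : N1 ≠ N := by
      intro h
      have h1 : N1.index = N.index := by rw [h]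
      rw [hN1idx, hNidx, hM1idx] at h1
      have hpos : 0 < M.index := Nat.pos_of_ne_zero Subgroup.index_ne_zero_of_finite
      have hp2 := hp.two_le
      nlinarith
    have hvan1 : ∀ ψ : IrrCharacter ↥N, charDegree (ψ : ↥N → ℂ) = b →
        ∀ x : ↥N, (x : G) ∉ N1 → (ψ : ↥N → ℂ) x = 0 :=
      fun ψ hψ x hx => hvan ψ hψ x (fun h => hx (hKN1 h))
    have hdeg1 := degLE_pred_of_vanish hG N N1 hN1N hN1ne hvan1
    have hN1top : N1 ≠ ⊤ := by
      intro h
      apply hNtop
      rw [eq_top_iff, ← h]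
      exact hN1N
    refine red_of_pred hb N1 hN1top hdeg1 ?_
    rw [hN1idx, hM1idx, sq]
    exact Nat.mul_le_mul hpleb hf

theorem reduce [Finite G] (hna : ¬ ∀ a b : G, a * b = b * a) {b : ℕ} (hb : 1 ≤ b)
    (hG : DegLE G b) : Red G b := by
  obtain ⟨K, hKn, hK, hmax⟩ := Cfsg.Agent.Lib.Helper20.CD3.exists_max_nonabelian_quotient hna
  have := hKn
  obtain ⟨hnaL, hminL⟩ := quot_facts K hK hmax
  by_cases hab : ∀ a ∈ commutator (G ⧸ K), ∀ b ∈ commutator (G ⧸ K), a * b = b * a
  · rcases Cfsg.Agent.Lib.Helper20.CD3.lemma_12_3 hnaL hminL hab with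
      ⟨p, hp, hL⟩ | ⟨p, hp, hM, _, hfpf⟩
    · exact case_P hb hG K hnaL hminL hp hL
    · exact case_F hb hG K hnaL hab hp hM hfpf
  · exact case_NS hb hG K hnaL hminL hab

theorem main : ∀ (n : ℕ) (X : Type u) [Group X] [Finite X], Nat.card X = n →
    ∀ b : ℕ, DegLE X b → HasAb X b := by
  intro n
  induction n using Nat.strong_induction_on with
  | _ n ih =>
    intro X _ _ hcard b hX
    by_cases hcomm : ∀ a b : X, a * b = b * a
    · refine ⟨⊤, fun x _ y _ => hcomm x y, ?_⟩
      rw [Subgroup.index_top]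
      exact Nat.one_le_pow _ _ (Nat.factorial_pos b)
    · have hb : 1 ≤ b := one_le_of_degLE hX
      obtain ⟨J, c, hJtop, hJdeg, hJle⟩ := reduce hcomm hb hX
      have hlt : Nat.card ↥J < n := by
        rw [← hcard]
        have h1 : Nat.card ↥J ≤ Nat.card X := Subgroup.card_le_card_group J
        have h2 : Nat.card ↥J ≠ Nat.card X := fun h => hJtop (Subgroup.eq_top_of_card_eq J h)
        omega
      have hJ : HasAb ↥J c := ih (Nat.card ↥J) hlt ↥J rfl c hJdeg
      exact hasAb_of_subgroup J hJ hJle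

end Cfsg.Agent.Lib.Helper15.IP
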